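import Cfsg.Agent.Lib.Sporadic.J4Type.Pentad.Main
import Cfsg.Prelude.Def_TwoFusion

/-!
# The special group of order `2¹⁵` in a group of Janko-four type
-/

set_option autoImplicit false
set_option linter.style.haveILetI false
set_option linter.unusedSectionVars false
set_option maxRecDepth 40000

namespace CfsgLib.Sporadic.J4Type.Pentad

open Cfsg CfsgLib.Sporadic.LargeFischer CfsgLib.Sporadic.LargeFischer.Hexa CfsgLib.Sporadic.J4Type
open CfsgLib.SmallGroups.Golay
open scoped commutatorElement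

local notation "SL3" => Matrix.SpecialLinearGroup (Fin 3) (ZMod 2)
local notation "S5" => Equiv.Perm (Fin 5)

section Transport

variable {G : Type*} [Group G] [Finite G]

theorem centralizer_map_equiv (e : G ≃* G) (Q : Subgroup G) :
    Subgroup.centralizer ((Q.map e.toMonoidHom : Subgroup G) : Set G) =
      (Subgroup.centralizer (Q : Set G)).map e.toMonoidHom := by
  ext a
  constructor
  · intro ha
    refine ⟨e.symm a, fun b hb => e.injective ?_, e.apply_symm_apply a⟩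
    rw [map_mul, map_mul, e.apply_symm_apply]
    exact ha _ ⟨b, hb, rfl⟩
  · rintro ⟨b, hb, rfl⟩ _ ⟨q, hq, rfl⟩
    exact (map_mul e q b).symm.trans ((congrArg e (hb q hq)).trans (map_mul e b q))

theorem normalizer_map_equiv (e : G ≃* G) (Q : Subgroup G) :
    Subgroup.normalizer ((Q.map e.toMonoidHom : Subgroup G) : Set G) =
      (Subgroup.normalizer (Q : Set G)).map e.toMonoidHom := (Subgroup.map_equiv_normalizer_eq Q e).symm

/-- A Sylow subgroup of prime order. -/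
theorem exists_sylow_of_prime {p : ℕ} [Fact p.Prime] (hp : ¬ (p * p ∣ Nat.card G)) {Q : Subgroup G}
    (hQ : Nat.card ↥Q = p) : ∃ P : Sylow p G, (P : Subgroup G) = Q := by
  obtain ⟨P, hP⟩ := (IsPGroup.of_card (n := 1) (by rw [hQ, pow_one]) : IsPGroup p ↥Q).exists_le_sylow
  refine ⟨P, (Subgroup.eq_of_le_of_card_ge hP ?_).symm⟩
  obtain ⟨k, hk⟩ := (IsPGroup.iff_card).1 P.isPGroup'
  rw [hQ, hk]
  by_contra hlt
  have h2 : 2 ≤ k := by
    by_contra h2
    exact hlt ((Nat.pow_le_pow_right (Nat.Prime.pos (Fact.out : p.Prime)) (by omega : k ≤ 1)).trans (pow_one p).le)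
  exact hp ((dvd_trans (by rw [← pow_two]; exact pow_dvd_pow p h2) (dvd_of_eq hk.symm)).trans (P : Subgroup G).card_subgroup_dvd_card)

theorem conj_of_prime {p : ℕ} [Fact p.Prime] (hp : ¬ (p * p ∣ Nat.card G)) {Q Q' : Subgroup G}
    (hQ : Nat.card ↥Q = p) (hQ' : Nat.card ↥Q' = p) : ∃ g : G, Q'.map (MulAut.conj g).toMonoidHom = Q := by
  obtain ⟨P, rfl⟩ := exists_sylow_of_prime hp hQ
  obtain ⟨P', rfl⟩ := exists_sylow_of_prime hp hQ'
  obtain ⟨g, hg⟩ := MulAction.exists_smul_eq G P' P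
  exact ⟨g, by rw [← hg, Sylow.coe_subgroup_smul]; rfl⟩

theorem five_local {Q : Subgroup G} (hQ : Nat.card ↥Q = 5) {J : Subgroup G}
    (hJ : Cfsg.IsInternalDirectProduct Q J (Subgroup.centralizer (Q : Set G))) {E : Subgroup ↥J} (hE : E.Normal)
    (hc : Nat.card ↥E = 8) (e : ↥J ⧸ E ≃* SL3) :
    Nat.card ↥(Subgroup.centralizer (Q : Set G)) = 6720 ∧
      (∀ a ∈ Subgroup.centralizer (Q : Set G), a * a = 1 → a ∈ J) ∧
      ⁅Subgroup.centralizer (Q : Set G), Subgroup.centralizer (Q : Set G)⁆ ≤ J := by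
  haveI := hE
  obtain ⟨-, -, hcomm, hinf, hsup⟩ := hJ
  have hcJ : Nat.card ↥J = 1344 := by
    have h := E.card_eq_card_quotient_mul_card_subgroup
    rw [Nat.card_congr e.toEquiv, card_SL3, hc] at h
    exact h
  let μ : ↥Q × ↥J →* G := Q.subtype.noncommCoprod J.subtype fun a b => hcomm a a.2 b b.2
  have hμi : Function.Injective μ := (injective_iff_map_eq_one μ).2 fun x hx => by
    have hx' : (x.1 : G) * x.2 = 1 := hx
    have h1 : (x.1 : G) ∈ Q ⊓ J := ⟨x.1.2, eq_inv_of_mul_eq_one_left hx' ▸ (inv_mem x.2.2 : ((x.2 : G))⁻¹ ∈ J)⟩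
    rw [hinf, Subgroup.mem_bot] at h1
    rw [h1, one_mul] at hx'
    exact Prod.ext (Subtype.ext h1) (Subtype.ext hx')
  have hμr : μ.range = Subgroup.centralizer (Q : Set G) := by
    refine (MonoidHom.noncommCoprod_range _ _ _).trans ?_
    rw [Subgroup.range_subtype, Subgroup.range_subtype, hsup]
  have hmem : ∀ a ∈ Subgroup.centralizer (Q : Set G), ∃ q : ↥Q, ∃ j : ↥J, a = q * j ∧ μ (q, j) = a := by
    intro a ha
    rw [← hμr] at ha
    obtain ⟨⟨q, j⟩, rfl⟩ := ha
    exact ⟨q, j, rfl, rfl⟩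
  refine ⟨?_, fun a ha h2 => ?_, ?_⟩
  · rw [← hμr, ← Nat.card_congr (MonoidHom.ofInjective hμi).toEquiv, Nat.card_prod, hQ, hcJ]
  · obtain ⟨q, j, e1, e2⟩ := hmem a ha
    have h3 : (q, j) * (q, j) = 1 := hμi (by rw [map_mul, e2, map_one, h2])
    have h4 : q * q = 1 := congrArg Prod.fst h3
    have hd : orderOf q ∣ Nat.gcd 2 5 :=
      Nat.dvd_gcd (orderOf_dvd_of_pow_eq_one (by rw [pow_two, h4])) (hQ ▸ orderOf_dvd_natCard q)
    have hq : q = 1 := orderOf_eq_one_iff.1 (Nat.dvd_one.1 hd)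
    rw [e1, hq, OneMemClass.coe_one, one_mul]
    exact j.2
  · rw [Subgroup.commutator_le]
    intro a ha b hb
    obtain ⟨q, j, e1, ea⟩ := hmem a ha
    obtain ⟨q', j', e1', eb⟩ := hmem b hb
    have hab : ∀ x y : ↥Q, x * y = y * x := by
      haveI : Fact (Nat.Prime 5) := ⟨by norm_num⟩
      haveI := isCyclic_of_prime_card hQ
      intro x y
      exact (IsCyclic.isMulCommutative (α := ↥Q)).is_comm.comm x y
    rw [← ea, ← eb, ← map_commutatorElement]
    have : ⁅(q, j), (q', j')⁆ = ((1 : ↥Q), ⁅j, j'⁆) := Prod.ext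
      (show ⁅q, q'⁆ = 1 from commutatorElement_eq_one_iff_mul_comm.2 (hab q q')) rfl
    rw [this]
    show ((1 : ↥Q) : G) * _ ∈ J
    rw [OneMemClass.coe_one, one_mul]
    exact (⁅j, j'⁆ : ↥J).2

end Transport

theorem quotient_of_eq {G : Type*} [Group G] [Finite G] {N L M : Subgroup G} (e : M = N) [(L.subgroupOf M).Normal]
    (Γ : ↥N →* S5 × SL3) (hs : Function.Surjective Γ) (hk : Γ.ker = L.subgroupOf N) :
    Nonempty (↥M ⧸ L.subgroupOf M ≃* S5 × SL3) := by
  subst e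
  exact ⟨(QuotientGroup.quotientMulEquivOfEq hk.symm).trans (QuotientGroup.quotientKerEquivOfSurjective Γ hs)⟩

theorem nonsplit_of_eq {G : Type*} [Group G] {N L M : Subgroup G} (e : M = N)
    (h : ∀ K : Subgroup ↥N, ¬ (L.subgroupOf N).IsComplement' K) :
    ∀ K : Subgroup ↥M, ¬ (L.subgroupOf M).IsComplement' K := by
  subst e
  exact h

theorem col_exists : ∀ m : Fin 8, m ≠ 0 → ∃ A : Matrix (Fin 3) (Fin 3) (ZMod 2), A.det = 1 ∧ ∀ i : Fin 3, A i 0 = bz m.1 i.1 := by
  decide +kernel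

theorem bz_ext : ∀ a b : Fin 8, (∀ i : Fin 3, bz a.1 i.1 = bz b.1 i.1) → a = b := by decide +kernel

variable {G : Type*} [Group G] [Finite G] [IsSimpleGroup G] {z : G} {π : G → V6}
  {ψ : ↥(Subgroup.centralizer ({z} : Set G)) →* (V6 ≃ₗ[ZMod 2] V6)}
  {x : ↥(Subgroup.centralizer ({z} : Set G))} (J : JF z π ψ x)
  {c : Fin 4 → ↥(Subgroup.centralizer ({z} : Set G))} (L : Lifts ψ x c)
include J L

theorem trans_E8 (hs : Function.Surjective (beta J L)) :
    ∀ a ∈ E8 J L, ∀ b ∈ E8 J L, a ≠ 1 → b ≠ 1 → ∃ n ∈ nE J L, n * a * n⁻¹ = b := by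
  have h0 : eg J L 0 = 1 := by rw [eg, Nat.mul_zero, (frame J).el_zero L]
  have key : ∀ a ∈ E8 J L, a ≠ 1 → ∃ n ∈ nE J L, n * eg J L 1 * n⁻¹ = a := by
    rintro a ⟨m, hm, rfl⟩ hne
    obtain ⟨A, hA, hcol⟩ := col_exists ⟨m, hm⟩ fun e => hne (by rw [show m = 0 from congrArg Fin.val e, h0])
    obtain ⟨n, hn⟩ := hs ⟨A, hA⟩
    obtain ⟨hlt, e⟩ := fm_spec J L n (show 1 < 8 by norm_num)
    refine ⟨n, n.2, e.trans ?_⟩
    have := bz_ext ⟨_, hlt⟩ ⟨m, hm⟩ fun i => by
      rw [← hcol i]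
      exact congrFun (congrFun (congrArg Subtype.val hn) i) (0 : Fin 3)
    rw [show fm J L n 1 = m from congrArg Fin.val this]
  intro a ha b hb ha1 hb1
  obtain ⟨n, hn, rfl⟩ := key a ha ha1
  obtain ⟨m, hm, rfl⟩ := key b hb hb1
  exact ⟨m * n⁻¹, mul_mem hm (inv_mem hn), by group⟩

theorem noElem_lE (hU : UniqAb G) : ¬ Cfsg.IsElementaryAbelian 2 (lE J L) := by
  intro h
  haveI : Fact (Nat.Prime 2) := ⟨Nat.prime_two⟩
  obtain ⟨T, hT⟩ := (IsPGroup.of_card (card_lE J L) : IsPGroup 2 ↥(lE J L)).exists_le_sylow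
  obtain ⟨g, hg⟩ := thompson_eq hU ((frame J).isElementaryAbelian_asub L) ((frame J).card_asub L) T
  have hle : ((frame J).asub L).map (MulAut.conj g).toMonoidHom ≤ (T : Subgroup G) := hg ▸ Subgroup.map_subtype_le _
  have := (hU T T.isPGroup' _ _ hle hT (elem_map ((frame J).isElementaryAbelian_asub L) _) h
    (by rw [Subgroup.card_map_of_injective (f := (MulAut.conj g).toMonoidHom) (MulAut.conj g).injective, (frame J).card_asub L])).1
  rw [card_lE J L] at this
  norm_num at this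

/-- The facts on the subgroups of order five and seven make the hypotheses. -/
theorem ctx_of (hU : UniqAb G) (hs : Function.Surjective (beta J L))
    (h5 : ∀ Q : Subgroup G, Nat.card ↥Q = 5 → Q ≤ Subgroup.centralizer ({z} : Set G) → ¬ (25 ∣ Nat.card G) ∧
      (∃ K : Subgroup G, Cfsg.IsInternalDirectProduct Q K (Subgroup.centralizer (Q : Set G)) ∧
        ∃ (E : Subgroup ↥K) (_ : E.Normal), Nat.card ↥E = 8 ∧ Nonempty (↥K ⧸ E ≃* SL3) ∧ ∀ T : Subgroup ↥K, ¬ E.IsComplement' T) ∧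
      Nat.card ↥(Subgroup.normalizer (Q : Set G)) = 26880)
    (h7 : ∀ S : Subgroup G, Nat.card ↥S = 7 → S ≤ Subgroup.centralizer ({z} : Set G) → ¬ (49 ∣ Nat.card G) ∧
      (∃ I : Subgroup G, Cfsg.IsInternalDirectProduct S I (Subgroup.centralizer (S : Set G)) ∧ Nonempty (↥I ≃* S5)) ∧
      Nat.card ↥(Subgroup.normalizer (S : Set G)) = 3 * Nat.card ↥(Subgroup.centralizer (S : Set G)) ∧
      Nat.card ↥(Subgroup.normalizer (S : Set G)) = 2520)
    (hH : 7 ∣ Nat.card ↥(Subgroup.centralizer ({z} : Set G))) :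
    Ctx (E8 J L) (nE J L) (cE J L) (lE J L) (chi J L) (beta J L) ∧ ¬ (25 ∣ Nat.card G) ∧ ¬ (49 ∣ Nat.card G) := by
  haveI : Fact (Nat.Prime 5) := ⟨by norm_num⟩
  haveI : Fact (Nat.Prime 7) := ⟨by norm_num⟩
  have hcard5 : 5 ∣ Nat.card ↥(Subgroup.centralizer ({z} : Set G)) :=
    dvd_trans (by rw [card_cE J L]; norm_num) (Subgroup.card_dvd_of_le (cE_le J L))
  obtain ⟨u, hu⟩ := exists_prime_orderOf_dvd_card' 5 hcard5
  obtain ⟨s, hs'⟩ := exists_prime_orderOf_dvd_card' 7 hH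
  set Q₀ := Subgroup.zpowers (u : G) with hQ₀
  set S₀ := Subgroup.zpowers (s : G) with hS₀
  have hQc : Nat.card ↥Q₀ = 5 := by rw [hQ₀, Nat.card_zpowers, Subgroup.orderOf_coe, hu]
  have hSc : Nat.card ↥S₀ = 7 := by rw [hS₀, Nat.card_zpowers, Subgroup.orderOf_coe, hs']
  obtain ⟨h25, ⟨K, hK, E, hE, hEc, ⟨eK⟩, hns⟩, hNQ⟩ := h5 Q₀ hQc (Subgroup.zpowers_le.2 u.2)
  obtain ⟨h49, ⟨I, hI, ⟨eI⟩⟩, hNS, hNS'⟩ := h7 S₀ hSc (Subgroup.zpowers_le.2 s.2)
  obtain ⟨hC5, hsq, hder⟩ := five_local hQc hK hE hEc eK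
  have hinj : ∀ g : G, Function.Injective (MulAut.conj g).toMonoidHom := fun g => (MulAut.conj g).injective
  refine ⟨{
      elemE := ⟨⟨⟨fun a b => Subtype.ext ((frame J).asub_comm L (E8_le_asub J L a.2) (E8_le_asub J L b.2))⟩⟩,
        fun a ha => by rw [pow_two]; exact (frame J).asub_sq L (E8_le_asub J L ha)⟩
      cardE := card_E8 J L
      hC := rfl
      hN := rfl
      cardC := card_cE J L
      cardL := card_lE J L
      LC := lE_le J L
      χs := chi_surj J L
      χk := (Subgroup.comap_map_eq_self_of_injective (cE J L).subtype_injective _).symm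
      βs := hs
      βk := beta_ker J L
      trans := trans_E8 J L hs
      noElem := noElem_lE J L hU
      five := ?_
      seven := ?_
      conjFive := fun Q Q' hQ hQ' => conj_of_prime h25 hQ hQ' }, h25, h49⟩
  · intro Q hQ
    obtain ⟨g, rfl⟩ := conj_of_prime h25 hQ hQc
    set φ := (MulAut.conj g).toMonoidHom with hφ
    rw [normalizer_map_equiv, centralizer_map_equiv]
    refine ⟨by rw [Subgroup.card_map_of_injective (hinj g), hNQ], by rw [Subgroup.card_map_of_injective (hinj g), hC5],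
      K.map φ, Subgroup.map_mono hK.2.1, ?_, ?_, ?_⟩
    · rintro _ ⟨a, ha, rfl⟩ e
      refine ⟨a, hsq a ha (hinj g ?_), rfl⟩
      rw [map_mul, map_one]; exact e
    · rw [← Subgroup.map_commutator]; exact Subgroup.map_mono hder
    · let eJ : ↥K ≃* ↥(K.map φ) := Subgroup.equivMapOfInjective K φ (hinj g)
      haveI := hE
      have hE' : (E.map eJ.toMonoidHom).Normal := Subgroup.Normal.map hE _ eJ.surjective
      haveI := hE'
      refine ⟨E.map eJ.toMonoidHom, hE', by rw [Subgroup.card_map_of_injective (f := eJ.toMonoidHom) eJ.injective, hEc],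
        ⟨((QuotientGroup.congr E (E.map eJ.toMonoidHom) eJ rfl).symm).trans eK⟩, fun T hT => hns (T.comap eJ.toMonoidHom) ?_⟩
      have hTc : Nat.card ↥(T.comap eJ.toMonoidHom) = Nat.card ↥T := by
        rw [← Subgroup.card_map_of_injective (f := eJ.toMonoidHom) eJ.injective,
          Subgroup.map_comap_eq_self_of_surjective (f := eJ.toMonoidHom) eJ.surjective]
      refine Subgroup.isComplement'_of_card_mul_and_disjoint ?_ ?_
      · have := hT.card_mul_card
        rwa [Subgroup.card_map_of_injective (f := eJ.toMonoidHom) eJ.injective, ← hTc, Nat.card_congr eJ.symm.toEquiv] at this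
      · rw [disjoint_iff, Subgroup.eq_bot_iff_forall]
        intro a ha
        have hm : eJ a ∈ E.map eJ.toMonoidHom ⊓ T := ⟨⟨a, ha.1, rfl⟩, ha.2⟩
        rw [hT.disjoint.eq_bot, Subgroup.mem_bot] at hm
        exact eJ.injective (hm.trans (map_one eJ).symm)
  · intro S hS
    obtain ⟨g, rfl⟩ := conj_of_prime h49 hS hSc
    rw [normalizer_map_equiv, centralizer_map_equiv]
    refine ⟨by rw [Subgroup.card_map_of_injective (hinj g), hNS'], ?_, I.map (MulAut.conj g).toMonoidHom,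
      Subgroup.map_mono hI.2.1, ⟨(Subgroup.equivMapOfInjective I _ (hinj g)).symm.trans eI⟩⟩
    rw [Subgroup.card_map_of_injective (hinj g)]
    omega

theorem seven_dvd_card : 7 ∣ Nat.card ↥(Subgroup.centralizer ({z} : Set G)) := by
  have h1 := ψ.range.card_subgroup_dvd_card
  have h2 : Nat.card ψ.range ∣ Nat.card ↥(Subgroup.centralizer ({z} : Set G)) := Subgroup.card_range_dvd ψ
  exact dvd_trans (by rw [J.card]; norm_num) h2

end CfsgLib.Sporadic.J4Type.Pentad
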