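import Cfsg.Agent.Lib.Sporadic.J4Type.Pentad.Struct2

/-!
# The normaliser of the special group of order `2¹⁵`
-/

set_option autoImplicit false
set_option linter.style.haveILetI false
set_option linter.unusedSectionVars false
set_option maxRecDepth 40000

namespace CfsgLib.Sporadic.J4Type.Pentad

open Cfsg
open scoped commutatorElement

local notation "SL3" => Matrix.SpecialLinearGroup (Fin 3) (ZMod 2)
local notation "S5" => Equiv.Perm (Fin 5)

theorem exists_noncomm_SL3 : ∃ a b : SL3, a * b ≠ b * a :=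
  ⟨⟨!![1, 1, 0; 0, 1, 0; 0, 0, 1], by decide +kernel⟩, ⟨!![1, 0, 0; 1, 1, 0; 0, 0, 1], by decide +kernel⟩,
    fun e => absurd (congrArg (fun A : SL3 => A.1 0 0) e) (by decide +kernel)⟩

theorem two_pow_five_seven : ∀ k ≤ 12, 2 ^ k % 5 = 1 → 2 ^ k % 7 = 1 → k = 0 ∨ k = 12 := by decide +kernel

/-- A permutation of finite order `q` with one fixed point. -/
theorem card_mod_of_one_fixed {α : Type*} [Finite α] {q : ℕ} [Fact q.Prime] (f : Equiv.Perm α) (hf : f ^ q = 1)
    (a : α) (ha : f a = a) (hu : ∀ b, f b = b → b = a) : Nat.card α % q = 1 := by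
  classical
  haveI := Fintype.ofFinite α
  have h := Equiv.Perm.card_compl_support_modEq (p := q) (n := 1) (σ := f) (by rwa [pow_one])
  have hs : (Equiv.Perm.support f)ᶜ = {a} := by
    ext b
    rw [Finset.mem_compl, Equiv.Perm.mem_support, Finset.mem_singleton, not_not]
    exact ⟨hu b, fun e => by rw [e, ha]⟩
  rw [hs, Finset.card_singleton] at h
  rw [Nat.card_eq_fintype_card]
  have h' : 1 % q = Fintype.card α % q := h
  rw [← h', Nat.mod_eq_of_lt (Nat.Prime.one_lt (Fact.out : q.Prime))]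

namespace Prd

variable {G : Type*} [Group G] [Finite G] {E N C L : Subgroup G} {χ : ↥C →* S5} {β : ↥N →* SL3}
  {h : Ctx E N C L χ β} {Γ : ↥N →* S5 × SL3} (hp : Prd h Γ)
include hp

theorem exists_elements : ∃ s u : ↥N, orderOf (s : G) = 7 ∧ orderOf (u : G) = 5 ∧ (u : G) ∈ C := by
  haveI : Fact (Nat.Prime 7) := ⟨by norm_num⟩
  haveI : Fact (Nat.Prime 5) := ⟨by norm_num⟩
  obtain ⟨s, hs⟩ := exists_prime_orderOf_dvd_card' (G := ↥N) 7 (by rw [h.card_N]; norm_num)
  obtain ⟨u, hu⟩ := exists_prime_orderOf_dvd_card' (G := ↥C) 5 (by rw [h.cardC]; norm_num)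
  exact ⟨s, ⟨u, h.C_le_N u.2⟩, by rw [Subgroup.orderOf_coe, hs], by simpa using (Subgroup.orderOf_coe u).trans hu, u.2⟩

/-- The subgroups between `E` and `L` invariant under the normaliser are trivial. -/
theorem between {Y : Subgroup G} (hEY : E ≤ Y) (hYL : Y ≤ L) (hinv : ∀ n ∈ N, ∀ a ∈ Y, n * a * n⁻¹ ∈ Y) :
    Y = E ∨ Y = L := by
  classical
  obtain ⟨s, u, hs, hu, huC⟩ := hp.exists_elements
  obtain ⟨-, -, hs1⟩ := hp.seven_data hs
  obtain ⟨-, -, hu1⟩ := hp.five_data hu huC
  have hnE : (E.subgroupOf Y).Normal := ⟨fun a ha y => h.conj_E (h.L_le_N (hYL y.2)) ha⟩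
  set T := E.subgroupOf Y
  -- the induced permutation of the cosets
  have hperm : ∀ n : ↥N, ∃ f : Equiv.Perm (↥Y ⧸ T), (∀ y : ↥Y,
      f (QuotientGroup.mk y) = QuotientGroup.mk ⟨(n : G) * y * (n : G)⁻¹, hinv n n.2 y y.2⟩) := by
    intro n
    have hinj : Function.Injective (fun q : ↥Y ⧸ T => Quotient.map' (s₁ := QuotientGroup.leftRel T) (s₂ := QuotientGroup.leftRel T)
        (fun y : ↥Y => (⟨(n : G) * y * (n : G)⁻¹, hinv n n.2 y y.2⟩ : ↥Y)) (fun a b hab => by
          rw [QuotientGroup.leftRel_apply, Subgroup.mem_subgroupOf] at hab ⊢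
          have := h.conj_E n.2 hab
          simpa [mul_assoc] using this) q) := by
      intro a b e
      induction a using QuotientGroup.induction_on with
      | H a =>
        induction b using QuotientGroup.induction_on with
        | H b =>
          have e' : (QuotientGroup.mk (⟨(n : G) * a * (n : G)⁻¹, hinv n n.2 a a.2⟩ : ↥Y) : ↥Y ⧸ T) =
              QuotientGroup.mk ⟨(n : G) * b * (n : G)⁻¹, hinv n n.2 b b.2⟩ := e
          rw [QuotientGroup.eq, Subgroup.mem_subgroupOf] at e' ⊢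
          have := h.conj_E (inv_mem n.2) e'
          simpa [mul_assoc] using this
    exact ⟨Equiv.ofBijective _ (Finite.injective_iff_bijective.1 hinj), fun y => rfl⟩
  have hcount : ∀ (q : ℕ), q.Prime → ∀ n : ↥N, orderOf (n : G) = q →
      (∀ y ∈ Y, y⁻¹ * ((n : G) * y * (n : G)⁻¹) ∈ E → y ∈ E) → Nat.card (↥Y ⧸ T) % q = 1 := by
    intro q hq n hn hfix
    haveI : Fact q.Prime := ⟨hq⟩
    obtain ⟨f, hf⟩ := hperm n
    have hiter : ∀ (k : ℕ) (y : ↥Y), (f ^ k) (QuotientGroup.mk y) =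
        QuotientGroup.mk ⟨(n : G) ^ k * y * ((n : G) ^ k)⁻¹, hinv _ (pow_mem n.2 k) y y.2⟩ := by
      intro k
      induction k with
      | zero => intro y; simp
      | succ k ih =>
        intro y
        rw [pow_succ', Equiv.Perm.mul_apply, ih, hf]
        exact congrArg QuotientGroup.mk (Subtype.ext (show (n : G) * ((n : G) ^ k * y * ((n : G) ^ k)⁻¹) * (n : G)⁻¹ =
          (n : G) ^ (k + 1) * y * ((n : G) ^ (k + 1))⁻¹ by rw [pow_succ']; group))
    refine card_mod_of_one_fixed f (Equiv.ext fun a => ?_) (QuotientGroup.mk 1) ?_ fun b hb => ?_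
    · induction a using QuotientGroup.induction_on with
      | H y =>
        rw [hiter]
        exact congrArg QuotientGroup.mk (Subtype.ext (show (n : G) ^ q * y * ((n : G) ^ q)⁻¹ = y by
          rw [← hn, pow_orderOf_eq_one]; group))
    · rw [hf]; exact congrArg QuotientGroup.mk (Subtype.ext (by simp))
    · induction b using QuotientGroup.induction_on with
      | H y =>
        rw [hf, eq_comm, QuotientGroup.eq, Subgroup.mem_subgroupOf] at hb
        rw [QuotientGroup.eq, Subgroup.mem_subgroupOf]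
        simpa using inv_mem (hfix y y.2 hb)
  have hsq : ∀ a ∈ E, a * a = 1 := fun a ha => by rw [← pow_two]; exact h.elemE.2 a ha
  have hcomm : ∀ a ∈ E, ∀ b ∈ E, a * b = b * a := fun a ha b hb =>
    congrArg Subtype.val (h.elemE.1.is_comm.comm (⟨a, ha⟩ : ↥E) ⟨b, hb⟩)
  have h5 : Nat.card (↥Y ⧸ T) % 5 = 1 := hcount 5 (by norm_num) u hu fun y hy he => by
    set e := y⁻¹ * ((u : G) * y * (u : G)⁻¹) with he'
    have hue : (u : G) * e * (u : G)⁻¹ = e := by
      have hh : (u : G) ∈ Subgroup.centralizer (E : Set G) := h.hC ▸ huC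
      rw [← hh e he, mul_inv_cancel_right]
    have hk : ∀ k : ℕ, (u : G) ^ k * y * ((u : G) ^ k)⁻¹ = y * e ^ k := by
      intro k
      induction k with
      | zero => simp
      | succ k ih =>
        calc (u : G) ^ (k + 1) * y * ((u : G) ^ (k + 1))⁻¹ = (u : G) * ((u : G) ^ k * y * ((u : G) ^ k)⁻¹) * (u : G)⁻¹ := by
              rw [pow_succ']; group
          _ = (u : G) * y * (u : G)⁻¹ * ((u : G) * e ^ k * (u : G)⁻¹) := by rw [ih]; group
          _ = y * e ^ (k + 1) := by
              rw [← conj_pow, hue, pow_succ', show (u : G) * y * (u : G)⁻¹ = y * e by rw [he']; group, mul_assoc]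
    have h5 := hk 5
    rw [show (u : G) ^ 5 = 1 by rw [← hu, pow_orderOf_eq_one],
      show e ^ 5 = e by rw [show (5 : ℕ) = 2 * 2 + 1 from rfl, pow_add, pow_mul, h.elemE.2 e he]; simp] at h5
    have he1 : e = 1 := by simpa using h5
    refine hu1 y (hYL hy) ?_
    have : y⁻¹ * ((u : G) * y * (u : G)⁻¹) = 1 := he1
    rw [inv_mul_eq_one, eq_comm, mul_inv_eq_iff_eq_mul] at this
    exact this
  have h7 : Nat.card (↥Y ⧸ T) % 7 = 1 := hcount 7 (by norm_num) s hs fun y hy he => by
    let f : ↥E → ↥E := fun a => ⟨(a : G) * ((s : G) * a * (s : G)⁻¹), mul_mem a.2 (h.conj_E s.2 a.2)⟩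
    have hf : Function.Injective f := by
      intro a b e
      have e' : (a : G) * ((s : G) * a * (s : G)⁻¹) = (b : G) * ((s : G) * b * (s : G)⁻¹) := congrArg Subtype.val e
      have hs' : (s : G) * ((a : G) * b) = (a : G) * b * s := by
        have h1 : (s : G) * ((a : G) * b) * (s : G)⁻¹ = (a : G) * b := by
          calc (s : G) * ((a : G) * b) * (s : G)⁻¹
              = (a : G)⁻¹ * ((a : G) * ((s : G) * a * (s : G)⁻¹)) * ((s : G) * b * (s : G)⁻¹) := by group
            _ = (a : G)⁻¹ * (b : G) * (((s : G) * b * (s : G)⁻¹) * ((s : G) * b * (s : G)⁻¹)) := by rw [e']; group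
            _ = (a : G) * b := by rw [hsq _ (h.conj_E s.2 b.2), mul_one, inv_eq_of_mul_eq_one_left (hsq _ a.2)]
        exact mul_inv_eq_iff_eq_mul.1 h1
      have := hs1 _ (h.E_le_L (mul_mem a.2 b.2)) hs'
      exact Subtype.ext ((mul_eq_one_iff_eq_inv.1 this).trans (inv_eq_of_mul_eq_one_left (hsq _ b.2)))
    obtain ⟨a, ha⟩ := Finite.injective_iff_surjective.1 hf ⟨_, he⟩
    have ha' : (a : G) * ((s : G) * a * (s : G)⁻¹) = y⁻¹ * ((s : G) * y * (s : G)⁻¹) := congrArg Subtype.val ha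
    have hya : (s : G) * (y * a) = y * a * s := by
      have hai : (a : G)⁻¹ = a := inv_eq_of_mul_eq_one_left (hsq _ a.2)
      have h1 : (s : G) * (y * a) * (s : G)⁻¹ = y * a := by
        have hq := hsq _ (h.conj_E s.2 a.2)
        calc (s : G) * (y * a) * (s : G)⁻¹
            = y * (y⁻¹ * ((s : G) * y * (s : G)⁻¹)) * ((s : G) * a * (s : G)⁻¹) := by group
          _ = y * a * (((s : G) * a * (s : G)⁻¹) * ((s : G) * a * (s : G)⁻¹)) := by rw [← ha']; group
          _ = y * a := by rw [hq, mul_one]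
      exact mul_inv_eq_iff_eq_mul.1 h1
    have h1 := hs1 _ (mul_mem (hYL hy) (h.E_le_L a.2)) hya
    rw [mul_eq_one_iff_eq_inv] at h1
    rw [h1]; exact inv_mem a.2
  have hcardY := T.card_eq_card_quotient_mul_card_subgroup
  have hTc : Nat.card ↥T = 8 := by rw [Nat.card_congr (Subgroup.subgroupOfEquivOfLe hEY).toEquiv, h.cardE]
  have hd : Nat.card ↥Y ∣ 2 ^ 15 := h.cardL ▸ Subgroup.card_dvd_of_le hYL
  rw [hTc] at hcardY
  have hq : Nat.card (↥Y ⧸ T) ∣ 2 ^ 12 := by
    rw [hcardY, show (2 : ℕ) ^ 15 = 2 ^ 12 * 8 by norm_num] at hd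
    exact Nat.dvd_of_mul_dvd_mul_right (by norm_num) hd
  obtain ⟨k, hk, ek⟩ := (Nat.dvd_prime_pow Nat.prime_two).1 hq
  rw [ek] at h5 h7
  rcases two_pow_five_seven k hk h5 h7 with rfl | rfl
  · refine Or.inl (Subgroup.eq_of_le_of_card_ge hEY ?_).symm
    rw [hcardY, ek, h.cardE]
    norm_num
  · refine Or.inr (Subgroup.eq_of_le_of_card_ge hYL ?_)
    rw [hcardY, ek, h.cardL]
    norm_num

/-- The normaliser moves `E` transitively, so its invariant subgroups are trivial. -/
theorem below {W : Subgroup G} (hWE : W ≤ E) (hinv : ∀ n ∈ N, ∀ a ∈ W, n * a * n⁻¹ ∈ W) : W = ⊥ ∨ W = E := by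
  by_cases hW : W = ⊥
  · exact Or.inl hW
  obtain ⟨⟨a, ha⟩, hne'⟩ := (Subgroup.ne_bot_iff_exists_ne_one).1 hW
  have hne : a ≠ 1 := fun e => hne' (Subtype.ext e)
  refine Or.inr (le_antisymm hWE fun b hb => ?_)
  by_cases hb1 : b = 1
  · rw [hb1]; exact one_mem _
  obtain ⟨n, hn, e⟩ := h.trans a (hWE ha) b hb hne hb1
  exact e ▸ hinv n hn a ha

/-- The special group. -/
theorem special : Cfsg.IsSpecial 2 ↥L ∧ (Subgroup.center ↥L).map L.subtype = E := by
  haveI : Fact (Nat.Prime 2) := ⟨Nat.prime_two⟩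
  classical
  let cj : ↥N → MulAut ↥L := fun n =>
    { toFun := fun a => ⟨(n : G) * a * (n : G)⁻¹, h.conj_L n.2 a.2⟩
      invFun := fun a => ⟨(n : G)⁻¹ * a * n, by simpa using h.conj_L (inv_mem n.2) a.2⟩
      left_inv := fun a => Subtype.ext (by simp [mul_assoc])
      right_inv := fun a => Subtype.ext (by simp [mul_assoc])
      map_mul' := fun a b => Subtype.ext (by simp [mul_assoc]) }
  have hchar : ∀ (W : Subgroup ↥L) [W.Characteristic], ∀ n ∈ N, ∀ a ∈ W.map L.subtype, n * a * n⁻¹ ∈ W.map L.subtype := by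
    rintro W hW n hn _ ⟨a, ha, rfl⟩
    exact ⟨cj ⟨n, hn⟩ a, (Subgroup.characteristic_iff_le_comap.1 hW (cj ⟨n, hn⟩)) ha, rfl⟩
  have h2 := h.isPGroup_L
  have hEc : ∀ a ∈ E, ∀ l ∈ L, a * l = l * a := fun a ha l hl => by
    have hh : l ∈ Subgroup.centralizer (E : Set G) := h.hC ▸ h.LC hl
    exact hh a ha
  -- the Frattini subgroup lies in `E`
  set Φ := (frattini ↥L).map L.subtype with hΦ
  have hΦE : Φ ≤ E := by
    rcases hp.between (Y := Φ ⊔ E) le_sup_right (sup_le (Subgroup.map_subtype_le _) h.E_le_L) (fun n hn a ha => by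
      have hle : (Φ ⊔ E).map (MulAut.conj n).toMonoidHom ≤ Φ ⊔ E := by
        rw [Subgroup.map_sup]
        refine sup_le_sup ?_ ?_
        · rintro _ ⟨b, hb, rfl⟩; exact hchar _ n hn b hb
        · rintro _ ⟨b, hb, rfl⟩; exact h.conj_E hn hb
      exact hle ⟨a, ha, rfl⟩) with e | e
    · exact le_sup_left.trans e.le
    · exfalso
      have h1 : frattini ↥L ⊔ E.subgroupOf L = ⊤ := by
        refine Subgroup.map_injective L.subtype_injective ?_
        rw [Subgroup.map_sup, ← MonoidHom.range_eq_map, Subgroup.range_subtype, Subgroup.map_subgroupOf_eq_of_le h.E_le_L]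
        exact e
      have h2 := frattini_nongenerating (by rwa [sup_comm] at h1 : E.subgroupOf L ⊔ frattini ↥L = ⊤)
      have h3 := congrArg (fun W : Subgroup ↥L => Nat.card ↥W) h2
      simp only [Subgroup.card_top, Nat.card_congr (Subgroup.subgroupOfEquivOfLe h.E_le_L).toEquiv, h.cardE, h.cardL] at h3
      norm_num at h3
  have hsq : ∀ a : ↥L, ((a : G) * a) ∈ E := fun a =>
    hΦE ⟨a * a, by rw [← pow_two]; exact CfsgLib.PGroup.Frattini.pow_mem_frattini h2 a, rfl⟩
  -- the derived subgroup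
  set D := (commutator ↥L).map L.subtype with hD
  have hDle : commutator ↥L ≤ frattini ↥L := by
    rw [commutator_def, Subgroup.commutator_le]
    exact fun a _ b _ => CfsgLib.PGroup.Frattini.commutatorElement_mem_frattini h2 a b
  have hDΦ : D ≤ Φ := Subgroup.map_mono hDle
  have hna : D ≠ ⊥ := by
    intro e
    have hab : ∀ a b : ↥L, a * b = b * a := fun a b => by
      have hm : ((⁅a, b⁆ : ↥L) : G) ∈ D := ⟨_, Subgroup.commutator_mem_commutator (Subgroup.mem_top a) (Subgroup.mem_top b), rfl⟩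
      rw [e, Subgroup.mem_bot] at hm
      exact commutatorElement_eq_one_iff_mul_comm.1 (Subtype.ext hm)
    let sq : ↥L →* ↥E := MonoidHom.mk' (fun a => ⟨(a : G) * a, hsq a⟩) fun a b => Subtype.ext (by
      show (a : G) * b * ((a : G) * b) = (a : G) * a * ((b : G) * b)
      have := congrArg Subtype.val (hab b a)
      push_cast at this
      calc (a : G) * b * ((a : G) * b) = (a : G) * ((b : G) * a) * b := by group
        _ = _ := by rw [this]; group)
    have hY : ∀ n ∈ N, ∀ a ∈ sq.ker.map L.subtype, n * a * n⁻¹ ∈ sq.ker.map L.subtype := by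
      rintro n hn _ ⟨a, ha, rfl⟩
      refine ⟨cj ⟨n, hn⟩ a, MonoidHom.mem_ker.2 (Subtype.ext ?_), rfl⟩
      show n * (a : G) * n⁻¹ * (n * (a : G) * n⁻¹) = 1
      have ha' : (a : G) * a = 1 := congrArg Subtype.val (MonoidHom.mem_ker.1 ha)
      calc n * (a : G) * n⁻¹ * (n * (a : G) * n⁻¹) = n * ((a : G) * a) * n⁻¹ := by group
        _ = 1 := by rw [ha']; group
    rcases hp.between (Y := sq.ker.map L.subtype) (fun a ha => ⟨⟨a, h.E_le_L ha⟩, MonoidHom.mem_ker.2 (Subtype.ext (by
        show a * a = 1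
        rw [← pow_two]; exact h.elemE.2 a ha)), rfl⟩) (Subgroup.map_subtype_le _) hY with e1 | e1
    · have h8 : Nat.card ↥sq.ker = 8 := by
        have := congrArg (fun W : Subgroup G => Nat.card ↥W) e1
        simp only [Subgroup.card_map_of_injective L.subtype_injective, h.cardE] at this
        exact this
      have h1 := sq.ker.card_mul_index
      rw [Subgroup.index_ker, h8, h.cardL] at h1
      have h2 : Nat.card ↥sq.range ≤ Nat.card ↥E := Nat.card_le_card_of_injective _ Subtype.val_injective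
      rw [h.cardE] at h2
      omega
    · refine h.noElem ⟨⟨⟨hab⟩⟩, fun a ha => ?_⟩
      rw [← e1] at ha
      obtain ⟨b, hb, rfl⟩ := ha
      rw [pow_two]
      exact congrArg Subtype.val (MonoidHom.mem_ker.1 hb)
  have hDE : D = E := ((hp.below (hDΦ.trans hΦE) (hchar _))).resolve_left hna
  have hΦeq : Φ = E := le_antisymm hΦE (hDE.ge.trans hDΦ)
  have hZ : (Subgroup.center ↥L).map L.subtype = E := by
    rcases hp.between (Y := (Subgroup.center ↥L).map L.subtype)
        (fun a ha => ⟨⟨a, h.E_le_L ha⟩, Subgroup.mem_center_iff.2 fun l => Subtype.ext (hEc a ha l l.2).symm, rfl⟩)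
        (Subgroup.map_subtype_le _) (hchar _) with e | e
    · exact e
    · exfalso
      refine hna ?_
      rw [Subgroup.eq_bot_iff_forall]
      have htop : Subgroup.center ↥L = ⊤ := by
        refine Subgroup.map_injective L.subtype_injective ?_
        rw [e, ← MonoidHom.range_eq_map, Subgroup.range_subtype]
      have hc0 : commutator ↥L ≤ ⊥ := by
        rw [commutator_def, Subgroup.commutator_le]
        intro a _ b _
        rw [Subgroup.mem_bot, commutatorElement_eq_one_iff_mul_comm]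
        exact Subgroup.mem_center_iff.1 (htop ▸ Subgroup.mem_top b) a
      rintro _ ⟨a, ha, rfl⟩
      rw [Subgroup.mem_bot.1 (hc0 ha)]; rfl
  refine ⟨⟨h2, Subgroup.map_injective L.subtype_injective (hΦeq.trans hZ.symm),
    Subgroup.map_injective L.subtype_injective (hDE.trans hZ.symm)⟩, hZ⟩

theorem normalizer_eq : Subgroup.normalizer (L : Set G) = N := by
  refine le_antisymm (fun n hn => ?_) fun n hn => ?_
  · rw [h.hN]
    have hle : E.map (MulAut.conj n).toMonoidHom ≤ E := by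
      rintro _ ⟨a, ha, rfl⟩
      obtain ⟨b, hb, rfl⟩ := hp.special.2.ge ha
      refine hp.special.2.le ⟨⟨n * b * n⁻¹, (Subgroup.mem_normalizer_iff.1 hn b).1 b.2⟩, Subgroup.mem_center_iff.2 fun l => ?_, rfl⟩
      have hl : n⁻¹ * (l : G) * n ∈ L := (Subgroup.mem_normalizer_iff.1 hn _).2 (by simpa [mul_assoc] using l.2)
      have := congrArg (fun t : ↥L => n * (t : G) * n⁻¹) (Subgroup.mem_center_iff.1 hb ⟨_, hl⟩)
      exact Subtype.ext (by simpa [mul_assoc] using this)
    have heq := Subgroup.eq_of_le_of_card_ge hle (by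
      rw [Subgroup.card_map_of_injective (f := (MulAut.conj n).toMonoidHom) (MulAut.conj n).injective])
    refine Subgroup.mem_normalizer_iff.2 fun a => ⟨fun ha => heq.le ⟨a, ha, rfl⟩, fun ha => ?_⟩
    obtain ⟨b, hb, eb⟩ := heq.ge ha
    rwa [← (MulAut.conj n).injective eb]
  · refine Subgroup.mem_normalizer_iff.2 fun a => ⟨fun ha => h.conj_L hn ha, fun ha => ?_⟩
    have := h.conj_L (inv_mem hn) ha
    simpa [mul_assoc] using this

theorem quotient_iso : ∃ _ : (L.subgroupOf N).Normal, Nonempty (↥N ⧸ L.subgroupOf N ≃* S5 × SL3) := by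
  haveI := h.normal_L
  exact ⟨h.normal_L, ⟨(QuotientGroup.quotientMulEquivOfEq hp.ker.symm).trans (QuotientGroup.quotientKerEquivOfSurjective Γ hp.surj)⟩⟩

/-- The extension does not split. -/
theorem nonsplit (K : Subgroup ↥N) : ¬ (L.subgroupOf N).IsComplement' K := by
  classical
  intro hK
  haveI : Fact (Nat.Prime 5) := ⟨by norm_num⟩
  haveI : Fact (Nat.Prime 2) := ⟨Nat.prime_two⟩
  haveI := simple_SL3
  set ρ : ↥K →* S5 × SL3 := Γ.comp K.subtype with hρ
  have hρi : Function.Injective ρ := (injective_iff_map_eq_one ρ).2 fun k hk => by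
    have hm : (k : ↥N) ∈ L.subgroupOf N ⊓ K := ⟨(hp.eq_one_iff _).1 hk, k.2⟩
    rw [hK.disjoint.eq_bot, Subgroup.mem_bot] at hm
    exact Subtype.ext hm
  have hρs : Function.Surjective ρ := fun y => by
    obtain ⟨n, rfl⟩ := hp.surj y
    obtain ⟨⟨l, k⟩, e⟩ := hK.2 n
    exact ⟨k, by
      rw [← e, map_mul, (hp.eq_one_iff (l : ↥N)).2 l.2, one_mul]; rfl⟩
  let e := MulEquiv.ofBijective ρ ⟨hρi, hρs⟩
  set f : S5 × SL3 →* G := N.subtype.comp (K.subtype.comp e.symm.toMonoidHom) with hf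
  have hfi : Function.Injective f := N.subtype_injective.comp (K.subtype_injective.comp e.symm.injective)
  obtain ⟨σ, hσ⟩ := exists_prime_orderOf_dvd_card' (G := S5) 5 (by rw [card_S5]; norm_num)
  set q := f (σ, 1) with hq
  have hqo : orderOf q = 5 := by rw [hq, orderOf_injective f hfi, Prod.orderOf_mk, orderOf_one, Nat.lcm_one_right, hσ]
  set T := (f.comp (MonoidHom.inr S5 SL3)).range with hT
  obtain ⟨-, u, -, hu, huC⟩ := hp.exists_elements
  obtain ⟨hCN, -, huE⟩ := hp.five_data hu huC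
  set Q := Subgroup.zpowers (u : G)
  obtain ⟨g, hg⟩ := h.conjFive Q (Subgroup.zpowers q) (by rw [Nat.card_zpowers, hu]) (by rw [Nat.card_zpowers, hqo])
  obtain ⟨-, hcc, J, hJQ, hJ2, hJd, E', hE'n, hE'c, ⟨eJ⟩, hns⟩ := h.five Q (by rw [Nat.card_zpowers, hu])
  set φ : SL3 →* G := (MulAut.conj g).toMonoidHom.comp (f.comp (MonoidHom.inr S5 SL3)) with hφ
  have hφi : Function.Injective φ :=
    (MulAut.conj g).injective.comp (hfi.comp (fun a b e => (Prod.ext_iff.1 e).2))
  have hφC : φ.range ≤ Subgroup.centralizer (Q : Set G) := by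
    rintro _ ⟨y, rfl⟩ b hb
    rw [← hg] at hb
    obtain ⟨_, hc, rfl⟩ := hb
    obtain ⟨k, rfl⟩ := Subgroup.mem_zpowers_iff.1 hc
    have hcm : Commute q (f ((1 : S5), y)) := by
      refine ((Commute.map ?_ f) : Commute (f (σ, 1)) (f (1, y)))
      exact Prod.ext (by simp) (by simp)
    exact ((hcm.zpow_left k).map (MulAut.conj g).toMonoidHom).eq
  have hperf : φ.range ≤ J := by
    refine le_trans ?_ hJd
    have htop : commutator SL3 = ⊤ := by
      refine (Subgroup.Normal.eq_bot_or_eq_top (H := commutator SL3) inferInstance).resolve_left fun e0 => ?_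
      have hcm : ∀ a b : SL3, a * b = b * a := fun a b => by
        have hm : ⁅a, b⁆ ∈ commutator SL3 := Subgroup.commutator_mem_commutator (Subgroup.mem_top a) (Subgroup.mem_top b)
        rw [e0, Subgroup.mem_bot] at hm
        exact commutatorElement_eq_one_iff_mul_comm.1 hm
      obtain ⟨a, b, hab⟩ := exists_noncomm_SL3
      exact hab (hcm a b)
    rw [MonoidHom.range_eq_map, ← htop, commutator_def, Subgroup.map_commutator]
    exact Subgroup.commutator_mono (MonoidHom.range_eq_map φ ▸ hφC) (MonoidHom.range_eq_map φ ▸ hφC)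
  haveI := hE'n
  have hE'2 : IsPGroup 2 ↥E' := IsPGroup.of_card (n := 3) (hE'c.trans (by norm_num))
  set T' := φ.range.subgroupOf J
  have hT'c : Nat.card ↥T' = 168 := by
    rw [Nat.card_congr (Subgroup.subgroupOfEquivOfLe hperf).toEquiv,
      ← Nat.card_congr (MonoidHom.ofInjective hφi).toEquiv, card_SL3]
  have hdisj : Disjoint E' T' := by
    rw [disjoint_iff, Subgroup.eq_bot_iff_forall]
    intro a ha
    obtain ⟨y, hy⟩ : (a : G) ∈ φ.range := ha.2
    let ψ₀ : SL3 →* ↥J := φ.codRestrict J fun y => hperf ⟨y, rfl⟩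
    have hψ : Function.Injective ψ₀ := fun a b e => hφi (congrArg Subtype.val e)
    have hbot := (Subgroup.Normal.eq_bot_or_eq_top (H := E'.comap ψ₀) inferInstance).resolve_right fun e0 => by
      have := Subgroup.card_le_of_le (show (⊤ : Subgroup SL3).map ψ₀ ≤ E' by rw [← e0]; exact Subgroup.map_comap_le _ _)
      rw [Subgroup.card_map_of_injective hψ, Subgroup.card_top, card_SL3, hE'c] at this
      omega
    have hy' : ψ₀ y = a := Subtype.ext hy
    have hmem : y ∈ E'.comap ψ₀ := by show ψ₀ y ∈ E'; rw [hy']; exact ha.1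
    rw [hbot, Subgroup.mem_bot] at hmem
    rw [← hy', hmem, map_one]
  refine hns T' (Subgroup.isComplement'_of_card_mul_and_disjoint ?_ hdisj)
  have hq8 := E'.card_eq_card_quotient_mul_card_subgroup
  rw [Nat.card_congr eJ.toEquiv, card_SL3, hE'c] at hq8
  rw [hE'c, hT'c, hq8]

/-- The subgroup isomorphic to the symmetric group, and the Sylow normalisers. -/
theorem normalisers : (∃ K₁ : Subgroup G, K₁ ≤ N ∧ Nonempty (↥K₁ ≃* S5)) ∧
    (∃ Q : Subgroup G, Nat.card ↥Q = 5 ∧ Subgroup.normalizer (Q : Set G) ≤ N) ∧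
    ∃ S : Subgroup G, Nat.card ↥S = 7 ∧ Subgroup.normalizer (S : Set G) ≤ N := by
  obtain ⟨s, u, hs, hu, huC⟩ := hp.exists_elements
  obtain ⟨hs1, hs2, -⟩ := hp.seven_data hs
  obtain ⟨-, hu2, -⟩ := hp.five_data hu huC
  obtain ⟨-, -, I, hI, hIe⟩ := h.seven (Subgroup.zpowers (s : G)) (by rw [Nat.card_zpowers, hs])
  exact ⟨⟨I, hI.trans hs1, hIe⟩, ⟨_, by rw [Nat.card_zpowers, hu], hu2⟩, ⟨_, by rw [Nat.card_zpowers, hs], hs2⟩⟩

end Prd

end CfsgLib.Sporadic.J4Type.Pentad
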