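import Cfsg.Agent.Lib.Sporadic.J4Type.Pentad.StabData
import Cfsg.Agent.Lib.Sporadic.J4Type.InvClasses

/-!
# The centraliser of a pure subgroup of order eight

The centraliser of `⟨z⟩` times the lift of a line of the small orbit is a two-group of order `2¹⁵` extended by the
symmetric group on the five blocks.
-/

set_option autoImplicit false
set_option linter.style.haveILetI false
set_option linter.unusedSectionVars false
set_option maxRecDepth 40000

namespace CfsgLib.Sporadic.J4Type.Pentad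

open CfsgLib.Sporadic.LargeFischer CfsgLib.Sporadic.LargeFischer.Hexa CfsgLib.Sporadic.J4Type
open CfsgLib.ThreeTransp.Extraspecial

/-- A linear map fixing the vector and its multiple. -/
structure Fixes (g : V6 ≃ₗ[ZMod 2] V6) : Prop where
  inj : InJ g
  v : g (dec v0) = dec v0
  w : g (dec w0) = dec w0

theorem wv_v0 : dec (wv 1) = dec v0 ∧ dec (wv 2) = dec w0 := ⟨congrArg dec vec_facts.1, congrArg dec vec_facts.2.1⟩

theorem omV_v0 : omV (dec v0) = dec w0 := by
  rw [omV_dec (by decide), vec_facts.2.2.1]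

/-- Such a map is linear. -/
theorem Fixes.lin {g : V6 ≃ₗ[ZMod 2] V6} (h : Fixes g) : ∀ u, g (omV u) = omV (g u) := by
  refine h.inj.1.resolve_right fun e => ?_
  have e1 := e (dec v0)
  rw [omV_v0, h.w, h.v, omV_v0, omV_dec (by decide : w0 < 4096)] at e1
  exact absurd (congrArg enc e1) (by decide +kernel)

/-- The number of the image of a block. -/
def blkImg (g : V6 ≃ₗ[ZMod 2] V6) (i : Fin 5) : ℕ := blk (enc (g (dec (rep i.1))))

theorem mem_flatten {n : ℕ} (hn : n < 4096) (h : inO n = true) : n ∈ blocks.flatten ∧ blk n < 5 := by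
  have h1 := List.all_eq_true.1 orbit_sub.1 n (List.mem_range.2 hn)
  simp only [h, Bool.not_true, Bool.false_or, decide_eq_true_eq] at h1
  refine ⟨?_, h1⟩
  have hlen : blk n < blocks.length := h1
  have hc := List.findIdx_getElem (p := fun B : List ℕ => B.contains n) (w := hlen)
  exact List.mem_flatten.2 ⟨_, List.getElem_mem _, List.contains_iff_mem.1 hc⟩

attribute [local irreducible] blk rep oc enc dec

theorem Fixes.inO_img {g : V6 ≃ₗ[ZMod 2] V6} (h : Fixes g) {n : ℕ} (hn : n < 4096) (ho : inO n = true) :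
    inO (enc (g (dec n))) = true := by
  have e : ∀ u, u < 4096 → g (dec u) = dec u → enc (g (dec n)) ^^^ u = enc (g (dec (n ^^^ u))) := fun u hu eu => by
    rw [dec_xor, map_add, enc_add, eu, enc_dec hu]
  have hoc : ∀ m, m < 4096 → oc (enc (g (dec m))) = oc m := fun m hm => by rw [h.inj.2, enc_dec hm]
  unfold inO at ho ⊢
  rw [e v0 (by decide) h.v, e w0 (by decide) h.w, hoc n hn, hoc _ (Nat.xor_lt_two_pow (n := 12) hn (by decide)),
    hoc _ (Nat.xor_lt_two_pow (n := 12) hn (by decide))]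
  exact ho

theorem Fixes.rel_img {g : V6 ≃ₗ[ZMod 2] V6} (h : Fixes g) {a b : ℕ} (ha : a < 4096) (hb : b < 4096) :
    rel (enc (g (dec a))) (enc (g (dec b))) = rel a b := by
  have hoc : ∀ m, m < 4096 → oc (enc (g (dec m))) = oc m := fun m hm => by rw [h.inj.2, enc_dec hm]
  have h1 : enc (g (dec a)) ^^^ enc (g (dec b)) ^^^ v0 = enc (g (dec (a ^^^ b ^^^ v0))) := by
    rw [dec_xor, map_add, enc_add, dec_xor, map_add, enc_add, h.v, enc_dec (by decide : v0 < 4096)]
  have h2 : enc (g (dec a)) ^^^ omc (enc (g (dec b))) = enc (g (dec (a ^^^ omc b))) := by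
    rw [dec_xor, map_add, enc_add, ← omV_dec hb, h.lin, enc_omV]
  unfold rel
  rw [h1, h2, hoc _ (Nat.xor_lt_two_pow (n := 12) (Nat.xor_lt_two_pow (n := 12) ha hb) (by decide)),
    hoc _ (Nat.xor_lt_two_pow (n := 12) ha (omc_fin ⟨b, hb⟩).1)]

theorem Fixes.blk_img {g : V6 ≃ₗ[ZMod 2] V6} (h : Fixes g) {n : ℕ} (hn : n < 4096) (ho : inO n = true) :
    blk (enc (g (dec (rep (blk n))))) = blk (enc (g (dec n))) := by
  obtain ⟨hmem, hlt⟩ := mem_flatten hn ho
  obtain ⟨hr, hro, hrb⟩ := rep_facts ⟨blk n, hlt⟩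
  dsimp only at hr hro hrb
  by_cases e : rep (blk n) = n
  · rw [e]
  have h1 := List.all_eq_true.1 (List.all_eq_true.1 rel_blk _ (mem_flatten hr hro).1) _ hmem
  simp only [Bool.or_eq_true, beq_iff_eq, e, false_or, hrb] at h1
  have a := mem_flatten (enc_lt _) (h.inO_img hr hro)
  have b := mem_flatten (enc_lt _) (h.inO_img hn ho)
  have h2 := List.all_eq_true.1 (List.all_eq_true.1 rel_blk _ a.1) _ b.1
  have hne : enc (g (dec (rep (blk n)))) ≠ enc (g (dec n)) := fun e' => e (by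
    have := congrArg dec e'
    rw [dec_enc, dec_enc] at this
    have := congrArg enc (g.injective this)
    rwa [enc_dec hr, enc_dec hn] at this)
  simp only [Bool.or_eq_true, beq_iff_eq, hne, false_or] at h2
  rw [h.rel_img hr hn, h1] at h2
  simpa using h2.symm

theorem Fixes.blkImg_lt {g : V6 ≃ₗ[ZMod 2] V6} (h : Fixes g) (i : Fin 5) : blkImg g i < 5 :=
  (mem_flatten (enc_lt _) (h.inO_img (rep_facts i).1 (rep_facts i).2.1)).2

/-- The image of a block. -/
def Fixes.act {g : V6 ≃ₗ[ZMod 2] V6} (h : Fixes g) (i : Fin 5) : Fin 5 := ⟨blkImg g i, h.blkImg_lt i⟩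

theorem Fixes.act_mul {g g' : V6 ≃ₗ[ZMod 2] V6} (h : Fixes g) (h' : Fixes g') (h'' : Fixes (g * g')) (i : Fin 5) :
    h''.act i = h.act (h'.act i) := by
  refine Fin.ext ?_
  show blk (enc (g (g' (dec (rep i.1))))) = blk (enc (g (dec (rep (blk (enc (g' (dec (rep i.1)))))))))
  rw [h.blk_img (enc_lt _) (h'.inO_img (rep_facts i).1 (rep_facts i).2.1), dec_enc]

theorem Fixes.act_one {g : V6 ≃ₗ[ZMod 2] V6} (h : Fixes g) (e : g = 1) (i : Fin 5) : h.act i = i := by
  refine Fin.ext ?_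
  show blk (enc (g (dec (rep i.1)))) = i.1
  rw [e, show (1 : V6 ≃ₗ[ZMod 2] V6) (dec (rep i.1)) = dec (rep i.1) from rfl, enc_dec (rep_facts i).1, (rep_facts i).2.2]

section Group

variable {G : Type*} [Group G] [Finite G] [IsSimpleGroup G] {z : G} {π : G → V6}
  {ψ : ↥(Subgroup.centralizer ({z} : Set G)) →* (V6 ≃ₗ[ZMod 2] V6)}
  {x : ↥(Subgroup.centralizer ({z} : Set G))} (J : JF z π ψ x)
  {c : Fin 4 → ↥(Subgroup.centralizer ({z} : Set G))} (L : Lifts ψ x c)
include J L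

/-- The eight elements. -/
noncomputable def eg (m : ℕ) : G := (frame J).el L (16 * m)

theorem eg_bits : eg J L 1 = z ∧ eg J L 2 = (frame J).rho 1 ∧ eg J L 4 = (frame J).rho 2 := by
  refine ⟨?_, ?_, ?_⟩
  · rw [eg, show 16 * 1 = mkc 0 true 0 from rfl, (frame J).el_mkc L (by norm_num) true (by norm_num)]
    simp [cpr, Hexa.bv, zp_one, (frame J).rho_zero]
  · rw [eg, show 16 * 2 = mkc 0 false 1 from rfl, (frame J).el_mkc L (by norm_num) false (by norm_num)]
    simp [cpr, Hexa.bv, zp_zero]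
  · rw [eg, show 16 * 4 = mkc 0 false 2 from rfl, (frame J).el_mkc L (by norm_num) false (by norm_num)]
    simp [cpr, Hexa.bv, zp_zero]

theorem eg_xor {a b : ℕ} (ha : a < 8) (hb : b < 8) : eg J L (a ^^^ b) = eg J L a * eg J L b := by
  rw [eg, eg, eg, ← (frame J).el_xor L (by omega) (by omega)]
  have : ∀ a b : Fin 8, 16 * (a.1 ^^^ b.1) = (16 * a.1) ^^^ (16 * b.1) := by decide +kernel
  rw [this ⟨a, ha⟩ ⟨b, hb⟩]

/-- The subgroup of order eight. -/
def E8 : Subgroup G where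
  carrier := {g | ∃ m < 8, g = eg J L m}
  one_mem' := ⟨0, by norm_num, by rw [eg, Nat.mul_zero, (frame J).el_zero L]⟩
  mul_mem' := fun {a b} ⟨m, hm, ea⟩ ⟨n, hn, eb⟩ =>
    ⟨m ^^^ n, Nat.xor_lt_two_pow (n := 3) hm hn, by rw [eg_xor J L hm hn, ← ea, ← eb]⟩
  inv_mem' := fun {a} ⟨m, hm, ea⟩ => ⟨m, hm, inv_eq_of_mul_eq_one_left (by
    rw [ea, ← eg_xor J L hm hm, Nat.xor_self, eg, Nat.mul_zero, (frame J).el_zero L])⟩

theorem eg_mem {m : ℕ} (hm : m < 8) : eg J L m ∈ E8 J L := ⟨m, hm, rfl⟩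

theorem E8_le_asub : E8 J L ≤ (frame J).asub L := by
  rintro g ⟨m, hm, rfl⟩
  exact ⟨16 * m, by omega, rfl⟩

theorem card_E8 : Nat.card ↥(E8 J L) = 8 := by
  let f : Fin 8 → ↥(E8 J L) := fun m => ⟨eg J L m.1, eg_mem J L m.2⟩
  rw [← Nat.card_eq_of_bijective f ⟨fun a b e => Fin.ext ?_, fun ⟨g, m, hm, e⟩ => ⟨⟨m, hm⟩, Subtype.ext e.symm⟩⟩,
    Nat.card_eq_fintype_card, Fintype.card_fin]
  have := (frame J).el_inj L (by omega) (by omega) (congrArg Subtype.val e)
  omega

theorem z_mem : z ∈ E8 J L := ⟨1, by norm_num, (eg_bits J L).1.symm⟩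

/-- Its centraliser. -/
def cE : Subgroup G := Subgroup.centralizer (E8 J L : Set G)

theorem mem_cE {g : G} : g ∈ cE J L ↔ g * z = z * g ∧ g * (frame J).rho 1 = (frame J).rho 1 * g ∧
    g * (frame J).rho 2 = (frame J).rho 2 * g := by
  obtain ⟨h1, h2, h4⟩ := eg_bits J L
  constructor
  · intro h
    exact ⟨(h z (z_mem J L)).symm, (h _ ⟨2, by norm_num, h2.symm⟩).symm,
      (h _ ⟨4, by norm_num, h4.symm⟩).symm⟩
  · rintro ⟨a, b, d⟩ e ⟨m, hm, rfl⟩
    show eg J L m * g = g * eg J L m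
    have hc : Commute g (eg J L 1) ∧ Commute g (eg J L 2) ∧ Commute g (eg J L 4) := by rw [h1, h2, h4]; exact ⟨a, b, d⟩
    have h0 : Commute g (eg J L 0) := by
      rw [eg, Nat.mul_zero, (frame J).el_zero L]
      exact Commute.one_right g
    have key : Commute g (eg J L m) := by
      interval_cases m
      · exact h0
      · exact hc.1
      · exact hc.2.1
      · rw [show (3 : ℕ) = 1 ^^^ 2 from rfl, eg_xor J L (by norm_num) (by norm_num)]; exact hc.1.mul_right hc.2.1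
      · exact hc.2.2
      · rw [show (5 : ℕ) = 1 ^^^ 4 from rfl, eg_xor J L (by norm_num) (by norm_num)]; exact hc.1.mul_right hc.2.2
      · rw [show (6 : ℕ) = 2 ^^^ 4 from rfl, eg_xor J L (by norm_num) (by norm_num)]; exact hc.2.1.mul_right hc.2.2
      · rw [show (7 : ℕ) = (1 ^^^ 2) ^^^ 4 from rfl, eg_xor J L (by decide) (by norm_num),
          eg_xor J L (by norm_num) (by norm_num)]
        exact (hc.1.mul_right hc.2.1).mul_right hc.2.2
    exact key.eq.symm

theorem cE_le : cE J L ≤ Subgroup.centralizer ({z} : Set G) := fun _ hg =>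
  Subgroup.mem_centralizer_singleton_iff.2 ((mem_cE J L).1 hg).1

/-- The map to the coordinates. -/
def ψE : ↥(cE J L) →* (V6 ≃ₗ[ZMod 2] V6) := ψ.comp (Subgroup.inclusion (cE_le J L))

theorem fixes (d : ↥(cE J L)) : Fixes (ψE J L d) := by
  obtain ⟨-, h1, h2⟩ := (mem_cE J L).1 d.2
  set F := frame J with hF
  refine ⟨range_le J ⟨_, rfl⟩, ?_, ?_⟩
  · have h := F.lf.act ⟨d, cE_le J L d.2⟩ _ (F.rho_mem 1)
    rw [show ((d : G) * F.rho 1 * (d : G)⁻¹) = F.rho 1 by rw [h1, mul_inv_cancel_right], F.π_rho, wv_v0.1] at h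
    exact h.symm
  · have h := F.lf.act ⟨d, cE_le J L d.2⟩ _ (F.rho_mem 2)
    rw [show ((d : G) * F.rho 2 * (d : G)⁻¹) = F.rho 2 by rw [h2, mul_inv_cancel_right], F.π_rho, wv_v0.2] at h
    exact h.symm

/-- The action on the five blocks. -/
def chi : ↥(cE J L) →* Equiv.Perm (Fin 5) where
  toFun d :=
    { toFun := (fixes J L d).act
      invFun := (fixes J L d⁻¹).act
      left_inv := fun i => by
        have h : Fixes (ψE J L d⁻¹ * ψE J L d) := by rw [← map_mul]; exact fixes J L _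
        rw [← Fixes.act_mul _ _ h i]
        exact h.act_one (by rw [← map_mul, inv_mul_cancel, map_one]) i
      right_inv := fun i => by
        have h : Fixes (ψE J L d * ψE J L d⁻¹) := by rw [← map_mul]; exact fixes J L _
        rw [← Fixes.act_mul _ _ h i]
        exact h.act_one (by rw [← map_mul, mul_inv_cancel, map_one]) i }
  map_one' := Equiv.ext fun i => (fixes J L 1).act_one (map_one _) i
  map_mul' a b := Equiv.ext fun i => by
    have h : Fixes (ψE J L a * ψE J L b) := by rw [← map_mul]; exact fixes J L _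
    show (fixes J L (a * b)).act i = (fixes J L a).act ((fixes J L b).act i)
    rw [← Fixes.act_mul _ _ h i]
    exact Fin.ext (by show blk _ = blk _; rw [map_mul])

/-- The pairing with the two vectors. -/
def pair : ↥(qImg (Cfsg.pCore 2 ↥(Subgroup.centralizer ({z} : Set G)))) →* Multiplicative (ZMod 2 × ZMod 2) where
  toFun a := Multiplicative.ofAdd (bs (π (a : G)) (dec v0), bs (π (a : G)) (dec w0))
  map_one' := by
    show Multiplicative.ofAdd (bs (π (1 : G)) (dec v0), bs (π (1 : G)) (dec w0)) = 1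
    rw [(frame J).lf.π_one, bs_zero_left, bs_zero_left]
    rfl
  map_mul' a b := by
    rw [← ofAdd_add, Prod.mk_add_mk, ← bs_add_left, ← bs_add_left, ← (frame J).lf.π_mul _ a.2 _ b.2]
    rfl

theorem pair_surj : Function.Surjective (pair J) := by
  set F := frame J with hF
  obtain ⟨-, -, -, -, a1, a2, b1, b2, hu1, hu2, -⟩ := vec_facts
  have hv : v0 < 4096 := by decide
  have hw : w0 < 4096 := by decide
  set q1 : ↥(qImg (Cfsg.pCore 2 ↥(Subgroup.centralizer ({z} : Set G)))) := ⟨F.lf.can F.hx (dec u1), F.lf.can_mem F.hx _⟩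
  set q2 : ↥(qImg (Cfsg.pCore 2 ↥(Subgroup.centralizer ({z} : Set G)))) := ⟨F.lf.can F.hx (dec u2), F.lf.can_mem F.hx _⟩
  have e1 : pair J q1 = Multiplicative.ofAdd (1, 0) := by
    show Multiplicative.ofAdd (bs (π (F.lf.can F.hx (dec u1))) (dec v0), bs (π (F.lf.can F.hx (dec u1))) (dec w0)) = _
    rw [F.lf.π_can F.hx, bs_eq_bv _ _ hu1 hv, bs_eq_bv _ _ hu1 hw, a1, a2]; rfl
  have e2 : pair J q2 = Multiplicative.ofAdd (0, 1) := by
    show Multiplicative.ofAdd (bs (π (F.lf.can F.hx (dec u2))) (dec v0), bs (π (F.lf.can F.hx (dec u2))) (dec w0)) = _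
    rw [F.lf.π_can F.hx, bs_eq_bv _ _ hu2 hv, bs_eq_bv _ _ hu2 hw, b1, b2]; rfl
  intro y
  have key : ∀ y : ZMod 2 × ZMod 2, y = (0, 0) ∨ y = (1, 0) ∨ y = (0, 1) ∨ y = (1, 0) + (0, 1) := by decide
  rcases key (Multiplicative.toAdd y) with e | e | e | e
  · exact ⟨1, by rw [map_one]; exact (congrArg Multiplicative.ofAdd e).symm⟩
  · exact ⟨q1, by rw [e1, ← e]; rfl⟩
  · exact ⟨q2, by rw [e2, ← e]; rfl⟩
  · exact ⟨q1 * q2, by rw [map_mul, e1, e2, ← ofAdd_add, ← e]; rfl⟩

theorem mem_cE_iff_pair {a : G} (ha : a ∈ qImg (Cfsg.pCore 2 ↥(Subgroup.centralizer ({z} : Set G)))) :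
    a ∈ cE J L ↔ pair J ⟨a, ha⟩ = 1 := by
  set F := frame J with hF
  have hp : pair J ⟨a, ha⟩ = 1 ↔ bs (π a) (dec v0) = 0 ∧ bs (π a) (dec w0) = 0 := by
    show Multiplicative.ofAdd (bs (π a) (dec v0), bs (π a) (dec w0)) = 1 ↔ _
    exact ofAdd_eq_one.trans Prod.mk_eq_zero
  rw [hp, mem_cE J L]
  constructor
  · rintro ⟨-, h1, h2⟩
    exact ⟨by rw [← wv_v0.1, ← F.π_rho]; exact F.lf.bs_of_commute ha (F.rho_mem 1) h1,
      by rw [← wv_v0.2, ← F.π_rho]; exact F.lf.bs_of_commute ha (F.rho_mem 2) h2⟩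
  · rintro ⟨h1, h2⟩
    exact ⟨F.lf.cent_z ha, F.lf.commute_of_bs ha (F.rho_mem 1) (by rwa [F.π_rho, wv_v0.1]),
      F.lf.commute_of_bs ha (F.rho_mem 2) (by rwa [F.π_rho, wv_v0.2])⟩

set_option maxHeartbeats 800000 in
theorem card_kerE : Nat.card (ψE J L).ker = 2048 := by
  set F := frame J with hF
  have hcard : Nat.card (pair J).ker = 2048 := by
    have e := (pair J).ker.card_mul_index
    rw [Subgroup.index_ker, MonoidHom.range_eq_top.2 (pair_surj J L), Subgroup.card_top] at e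
    have h4 : Nat.card (Multiplicative (ZMod 2 × ZMod 2)) = 4 :=
      (Nat.card_congr Multiplicative.toAdd).trans (by rw [Nat.card_eq_fintype_card]; rfl)
    rw [h4, F.lf.card_Q] at e
    omega
  rw [← hcard]
  have heq : (ψE J L).ker.map (cE J L).subtype =
      (pair J).ker.map (qImg (Cfsg.pCore 2 ↥(Subgroup.centralizer ({z} : Set G)))).subtype := by
    ext a
    constructor
    · rintro ⟨d, hd, rfl⟩
      have h1 : ((cE J L).subtype d) ∈ qImg (Cfsg.pCore 2 ↥(Subgroup.centralizer ({z} : Set G))) :=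
        (F.lf.ker ⟨_, cE_le J L d.2⟩).1 hd
      exact ⟨⟨_, h1⟩, (mem_cE_iff_pair J L h1).1 d.2, rfl⟩
    · rintro ⟨⟨q, hq⟩, hd, rfl⟩
      have h1 : q ∈ cE J L := (mem_cE_iff_pair J L hq).2 hd
      exact ⟨⟨q, h1⟩, (F.lf.ker ⟨q, cE_le J L h1⟩).2 hq, rfl⟩
  have e1 := Subgroup.card_map_of_injective (K := (ψE J L).ker) (cE J L).subtype_injective
  rw [heq] at e1
  exact e1.symm.trans (Subgroup.card_map_of_injective (Subgroup.subtype_injective _))

/-- Maps fixing the two vectors lift. -/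
theorem exists_lift_fix {g : V6 ≃ₗ[ZMod 2] V6} (hg : g ∈ ψ.range) (hv : g (dec v0) = dec v0)
    (hw : g (dec w0) = dec w0) : ∃ d, ψE J L d = g := by
  set F := frame J with hF
  obtain ⟨d, rfl⟩ := hg
  have hex : ∀ k v, dec (wv k) = dec v → ψ d (dec v) = dec v →
      ∃ e : ZMod 2, (d : G) * F.rho k * (d : G)⁻¹ = F.rho k * zp z e := by
    intro k v hk hv
    obtain ⟨hm, hπ⟩ := F.lf.π_conj d (F.rho_mem k)
    rw [F.π_rho, hk, hv, ← hk, ← F.π_rho k] at hπ
    rcases (F.lf.π_eq_iff (F.rho_mem k) hm).1 hπ.symm with e | e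
    · exact ⟨0, by rw [e, zp_zero, mul_one]⟩
    · exact ⟨1, by rw [e, zp_one]⟩
  obtain ⟨e1, h1⟩ := hex 1 v0 wv_v0.1 hv
  obtain ⟨e2, h2⟩ := hex 2 w0 wv_v0.2 hw
  obtain ⟨⟨q, hq⟩, hp⟩ := pair_surj J L (Multiplicative.ofAdd (e1, e2))
  have hp' : bs (π q) (dec v0) = e1 ∧ bs (π q) (dec w0) = e2 := Prod.ext_iff.1 (congrArg Multiplicative.toAdd hp)
  have hconj : ∀ k v, dec (wv k) = dec v → ∀ e : ZMod 2, bs (π q) (dec v) = e →
      (d : G) * F.rho k * (d : G)⁻¹ = F.rho k * zp z e → q * (d : G) * F.rho k = F.rho k * (q * d) := by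
    intro k v hk e he hd
    have hsw := F.lf.swap (F.rho_mem k) hq
    rw [F.π_rho, hk, bs_comm, he] at hsw
    have hz : Commute (zp z e) (d : G) := F.zp_commute L _ (F.z_comm' d)
    have hd' : (d : G) * F.rho k = F.rho k * zp z e * d := mul_inv_eq_iff_eq_mul.1 hd
    calc q * (d : G) * F.rho k = q * (F.rho k * (zp z e * d)) := by rw [mul_assoc, hd', mul_assoc]
      _ = F.rho k * q * (zp z e * zp z e) * d := by rw [← mul_assoc q, hsw]; group
      _ = _ := by rw [← F.lf.zp_add, CharTwo.add_self_eq_zero, zp_zero]; group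
  have hmem : q * (d : G) ∈ cE J L := (mem_cE J L).2
    ⟨Subgroup.mem_centralizer_singleton_iff.1 (mul_mem (F.lf.mem_cent hq) d.2), hconj 1 v0 wv_v0.1 e1 hp'.1 h1,
      hconj 2 w0 wv_v0.2 e2 hp'.2 h2⟩
  refine ⟨⟨_, hmem⟩, ?_⟩
  show ψ (⟨q, F.lf.mem_cent hq⟩ * d) = ψ d
  rw [map_mul, (F.lf.ker ⟨q, F.lf.mem_cent hq⟩).2 hq, one_mul]

theorem exists_word_fix (w : List ℕ) (hw : ∀ i ∈ w, i < 5) (h1 : appW w v0 = v0) (h2 : appW w w0 = w0) :
    ∃ d, ∀ i : Fin 5, ((chi J L d i : Fin 5) : ℕ) = blk (appW w (rep i.1)) := by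
  obtain ⟨g, hg, hgn⟩ := exists_word J w hw
  obtain ⟨d, hd⟩ := exists_lift_fix J L hg (by rw [(hgn v0 (by decide)).2, h1]) (by rw [(hgn w0 (by decide)).2, h2])
  refine ⟨d, fun i => ?_⟩
  show blk (enc (ψE J L d (dec (rep i.1)))) = _
  rw [hd, (hgn _ (rep_facts i).1).2, enc_dec (hgn _ (rep_facts i).1).1]

theorem chi_surj : Function.Surjective (chi J L) := by
  obtain ⟨f1, f2, f3⟩ := five_facts
  obtain ⟨t1, t2, t3⟩ := two_facts
  obtain ⟨a, ha⟩ := exists_word_fix J L wFive word_lt.1 f1 f2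
  obtain ⟨b, hb⟩ := exists_word_fix J L wTwo word_lt.2.1 t1 t2
  set σ := chi J L a
  set τ := chi J L b
  have hget : ∀ (w : List ℕ) (l : List ℕ) (i : Fin 5),
      (List.range 5).map (fun i => blk (appW w (rep i))) = l → blk (appW w (rep i.1)) = l.getD i.1 0 := by
    intro w l i e
    rw [← e, List.getD_eq_getElem _ _ (by simp), List.getElem_map, List.getElem_range]
  have hσ : ∀ i : Fin 5, σ i = ![4, 3, 1, 0, 2] i := fun i => Fin.ext (by
    rw [ha i, hget _ _ i f3]; fin_cases i <;> rfl)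
  have hτ : τ = Equiv.swap (1 : Fin 5) 4 := Equiv.ext fun i => Fin.ext (by
    rw [hb i, hget _ _ i t3]; fin_cases i <;> rfl)
  have hit : ∀ y : Fin 5, ∃ k : ℕ, (σ ^ k) 0 = y := by
    intro y
    fin_cases y
    exacts [⟨0, rfl⟩, ⟨3, by simp [pow_succ, hσ]⟩, ⟨2, by simp [pow_succ, hσ]⟩, ⟨4, by simp [pow_succ, hσ]⟩,
      ⟨1, by simp [hσ]⟩]
  have hcyc : σ.IsCycle := ⟨0, by rw [hσ]; decide, fun y _ => by
    obtain ⟨k, hk⟩ := hit y
    exact ⟨(k : ℤ), by rwa [zpow_natCast]⟩⟩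
  have hsupp : σ.support = Finset.univ := by
    refine Finset.eq_univ_iff_forall.2 fun i => Equiv.Perm.mem_support.2 ?_
    rw [hσ]
    revert i; decide
  have htop := Equiv.Perm.closure_prime_cycle_swap (by rw [Fintype.card_fin]; norm_num) hcyc hsupp
    (show τ.IsSwap from ⟨1, 4, by decide, hτ⟩)
  refine MonoidHom.range_eq_top.1 (top_le_iff.1 (htop ▸ (Subgroup.closure_le _).2 ?_))
  rintro g (rfl | rfl)
  exacts [⟨a, rfl⟩, ⟨b, rfl⟩]

theorem card_range : Nat.card (ψE J L).range = 1920 := by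
  set F := frame J with hF
  set St := MulAction.stabilizer ↥ψ.range (dec v0) with hSt
  have horb : MulAction.orbit ↥ψ.range (dec v0) = {u | oc (enc u) = (false, true)} := by
    ext u
    constructor
    · rintro ⟨⟨g, hg⟩, rfl⟩
      show oc (enc (g (dec v0))) = _
      rw [((range_le J hg : InJ g)).2, enc_dec (by decide)]
      exact vec_facts.2.2.2.1
    · intro hu
      obtain ⟨g, hg, e⟩ := transitive J (by decide : v0 < 4096) (enc_lt u) (by rw [vec_facts.2.2.2.1, hu])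
        (by rw [vec_facts.2.2.2.1]; decide)
      exact ⟨⟨g, hg⟩, by show g (dec v0) = u; rw [e, dec_enc]⟩
  have h693 : Nat.card ↥(MulAction.orbit ↥ψ.range (dec v0)) = 693 := by
    rw [horb]
    obtain ⟨-, -, -, -, -, -, -, -, -, -, hc⟩ := vec_facts
    rw [List.countP_eq_length_filter, ← List.toFinset_card_of_nodup (List.nodup_range.filter _)] at hc
    refine Eq.trans ?_ hc
    rw [← Fintype.card_coe, ← Nat.card_eq_fintype_card]
    exact Nat.card_congr
      { toFun := fun u => ⟨enc u.1, by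
          simp only [List.mem_toFinset, List.mem_filter, List.mem_range, beq_iff_eq]
          exact ⟨enc_lt _, u.2⟩⟩
        invFun := fun n => ⟨dec n.1, by
          have hn := n.2
          simp only [List.mem_toFinset, List.mem_filter, List.mem_range, beq_iff_eq] at hn
          show oc (enc (dec n.1)) = _
          rw [enc_dec hn.1]
          exact hn.2⟩
        left_inv := fun u => Subtype.ext (dec_enc _)
        right_inv := fun n => Subtype.ext (enc_dec (by
          have hn := n.2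
          simp only [List.mem_toFinset, List.mem_filter, List.mem_range] at hn
          exact hn.1)) }
  have e := St.card_mul_index
  rw [hSt, MulAction.index_stabilizer, ← Nat.card_coe_set_eq, h693, J.card] at e
  -- the linear ones have index two
  have hle : (ψE J L).range ≤ ψ.range := by rintro g ⟨d, rfl⟩; exact ⟨_, rfl⟩
  set K : Subgroup ↥ψ.range := (ψE J L).range.subgroupOf ψ.range with hK
  have hKS : K ≤ St := by
    rintro ⟨g, hg⟩ ⟨d, hd⟩
    show g (dec v0) = dec v0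
    have e : g = ψE J L d := hd.symm
    rw [e]
    exact (fixes J L d).v
  have hKiff : ∀ s : ↥ψ.range, s ∈ St → (s ∈ K ↔ (s : V6 ≃ₗ[ZMod 2] V6) (dec w0) = dec w0) := by
    intro s hs
    constructor
    · rintro ⟨d, hd⟩
      have e : (s : V6 ≃ₗ[ZMod 2] V6) = ψE J L d := hd.symm
      rw [e]; exact (fixes J L d).w
    · intro h
      obtain ⟨d, hd⟩ := exists_lift_fix J L s.2 hs h
      exact ⟨d, hd⟩
  have hw3 : omV (dec w0) ≠ dec w0 := by
    rw [omV_dec (by decide)]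
    exact fun e => absurd (congrArg enc e) (by decide +kernel)
  have hval : ∀ s ∈ St, (s : V6 ≃ₗ[ZMod 2] V6) (dec w0) = dec w0 ∨
      ((∀ u, (s : V6 ≃ₗ[ZMod 2] V6) (omV u) = omV (omV ((s : V6 ≃ₗ[ZMod 2] V6) u))) ∧
        (s : V6 ≃ₗ[ZMod 2] V6) (dec w0) = omV (dec w0)) := by
    intro s hs
    have hs' : (s : V6 ≃ₗ[ZMod 2] V6) (dec v0) = dec v0 := hs
    rcases (range_le J s.2 : InJ _).1 with h | h
    · exact Or.inl (by rw [← omV_v0, h, hs'])
    · exact Or.inr ⟨h, by rw [← omV_v0, h, hs', omV_v0]⟩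
  obtain ⟨gs, hgs, hgsn⟩ := exists_word J wSemi word_lt.2.2
  have hs0 : (⟨gs, hgs⟩ : ↥ψ.range) ∈ St := by
    show gs (dec v0) = dec v0
    rw [(hgsn v0 (by decide)).2, semi_facts.1]
  have hsn : ¬ gs (dec w0) = dec w0 := by
    rw [(hgsn w0 (by decide)).2]
    intro e
    have e' := congrArg enc e
    rw [enc_dec (hgsn w0 (by decide)).1, enc_dec (by decide)] at e'
    exact semi_facts.2 e'
  have hidx : K.relIndex St = 2 := by
    rw [Subgroup.relIndex, Subgroup.index_eq_two_iff]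
    refine ⟨⟨⟨gs, hgs⟩, hs0⟩, fun b => ?_⟩
    show Xor (((b * ⟨⟨gs, hgs⟩, hs0⟩ : ↥St) : ↥ψ.range) ∈ K) ((b : ↥ψ.range) ∈ K)
    rw [hKiff _ (b * ⟨⟨gs, hgs⟩, hs0⟩ : ↥St).2, hKiff _ b.2]
    show Xor (((b : ↥ψ.range) : V6 ≃ₗ[ZMod 2] V6) (gs (dec w0)) = dec w0) _
    obtain ⟨-, hg2⟩ := (hval ⟨gs, hgs⟩ hs0).resolve_left hsn
    have hg2' : gs (dec w0) = omV (dec w0) := hg2
    rw [hg2']
    rcases hval _ b.2 with hb | ⟨hsemi, hb⟩
    · refine Or.inr ⟨hb, fun e => hw3 ?_⟩
      exact ((b : ↥ψ.range) : V6 ≃ₗ[ZMod 2] V6).injective (e.trans hb.symm)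
    · refine Or.inl ⟨?_, fun e => hw3 (hb.symm.trans e)⟩
      rw [hsemi, hb, omV3]
  have h2 := Subgroup.relIndex_mul_index hKS
  have h3 := K.card_mul_index
  rw [J.card, ← h2, hidx, hSt, MulAction.index_stabilizer, ← Nat.card_coe_set_eq, h693,
    hK, Nat.card_congr (Subgroup.subgroupOfEquivOfLe hle).toEquiv] at h3
  omega

/-- The kernel of the action on the blocks. -/
def lE : Subgroup G := (chi J L).ker.map (cE J L).subtype

theorem lE_le : lE J L ≤ cE J L := Subgroup.map_subtype_le _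

theorem card_cE : Nat.card ↥(cE J L) = 2 ^ 15 * 120 := by
  have e := (ψE J L).ker.card_mul_index
  rw [Subgroup.index_ker, card_range J L, card_kerE J L] at e
  rw [← e]; norm_num

theorem card_lE : Nat.card ↥(lE J L) = 2 ^ 15 := by
  rw [lE, Subgroup.card_map_of_injective (Subgroup.subtype_injective _)]
  have e := (chi J L).ker.card_mul_index
  rw [Subgroup.index_ker, MonoidHom.range_eq_top.2 (chi_surj J L), Subgroup.card_top, card_cE J L,
    Nat.card_eq_fintype_card (α := Equiv.Perm (Fin 5)), Fintype.card_perm, Fintype.card_fin,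
    show Nat.factorial 5 = 120 from rfl] at e
  exact Nat.eq_of_mul_eq_mul_right (by norm_num) e

end Group

end CfsgLib.Sporadic.J4Type.Pentad
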