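import Cfsg.Agent.Lib.Sporadic.J4Type.Orbits

/-!
# The stabiliser of a line of the small orbit: five blocks

The vectors in one orbit of the stabiliser fall into five blocks of six.
-/

set_option autoImplicit false
set_option maxRecDepth 40000

namespace CfsgLib.Sporadic.J4Type.Pentad

open CfsgLib.Sporadic.LargeFischer CfsgLib.Sporadic.LargeFischer.Hexa CfsgLib.Sporadic.J4Type

/-- The vector. -/
def v0 : ℕ := 2881

/-- Its multiple. -/
def w0 : ℕ := 3458

/-- A vector meeting the first. -/
def u1 : ℕ := 2

/-- A vector meeting the second. -/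
def u2 : ℕ := 1

/-- The blocks. -/
def blocks : List (List ℕ) := [[85, 825, 876, 2093, 2168, 2836],
   [190, 371, 461, 2610, 2700, 3071],
   [235, 1079, 1244, 2986, 3958, 3997],
   [586, 1297, 1883, 2315, 3098, 3664],
   [673, 1348, 2021, 2528, 3236, 3589]]

/-- The orbit of the blocks. -/
def inO (n : ℕ) : Bool :=
  oc n == (false, true) && oc (n ^^^ v0) == (false, true) && oc (n ^^^ w0) == (true, false)

/-- Lying in one block, for two members. -/
def rel (a b : ℕ) : Bool :=
  (oc (a ^^^ b ^^^ v0) == (false, false) && oc (a ^^^ omc b) == (true, false)) ||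
    (oc (a ^^^ b ^^^ v0) == (false, true) && oc (a ^^^ omc b) == (false, true))

/-- The number of the block. -/
def blk (n : ℕ) : ℕ := blocks.findIdx fun B => B.contains n

/-- The first member of a block. -/
def rep (i : ℕ) : ℕ := (blocks.getD i []).getD 0 0

/-- A five-cycle, as a word. -/
def wFive : List ℕ := [0, 1, 2, 2]

/-- A transposition, as a word. -/
def wTwo : List ℕ := [2, 0, 2, 0, 0, 0, 2, 0, 0, 2, 0]

/-- A semilinear map fixing the vector, as a word. -/
def wSemi : List ℕ := [3, 0, 4]

theorem vec_facts : wv 1 = v0 ∧ wv 2 = w0 ∧ omc v0 = w0 ∧ oc v0 = (false, true) ∧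
    bsc u1 v0 = true ∧ bsc u1 w0 = false ∧ bsc u2 v0 = false ∧ bsc u2 w0 = true ∧ u1 < 4096 ∧ u2 < 4096 ∧
    ((List.range 4096).countP fun n => oc n == (false, true)) = 693 := by decide +kernel

theorem orbit_sub : ((List.range 4096).all fun n => !inO n || decide (blk n < 5)) = true ∧
    (blocks.flatten.all fun a => decide (a < 4096) && inO a) = true := by decide +kernel

theorem rel_blk : (blocks.flatten.all fun a => blocks.flatten.all fun b =>
    a == b || (rel a b == (blk a == blk b))) = true := by decide +kernel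

theorem rep_facts : ∀ i : Fin 5, rep i.1 < 4096 ∧ inO (rep i.1) = true ∧ blk (rep i.1) = i.1 := by decide +kernel

theorem word_lt : (∀ i ∈ wFive, i < 5) ∧ (∀ i ∈ wTwo, i < 5) ∧ (∀ i ∈ wSemi, i < 5) := by decide +kernel

theorem five_facts : appW wFive v0 = v0 ∧ appW wFive w0 = w0 ∧
    (List.range 5).map (fun i => blk (appW wFive (rep i))) = [4, 3, 1, 0, 2] := by decide +kernel

theorem two_facts : appW wTwo v0 = v0 ∧ appW wTwo w0 = w0 ∧
    (List.range 5).map (fun i => blk (appW wTwo (rep i))) = [0, 4, 2, 3, 1] := by decide +kernel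

theorem semi_facts : appW wSemi v0 = v0 ∧ appW wSemi w0 ≠ w0 := by decide +kernel

end CfsgLib.Sporadic.J4Type.Pentad
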