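import Cfsg.Agent.Lib.Sporadic.J4Type.Pentad.Trio
import Cfsg.Agent.Lib.PGroup.Frattini

/-!
# A special group of order `2¹⁵` from its normaliser

The centraliser of a subgroup `E` of order eight is `L.S₅`, the normaliser induces `SL₃(2)` on `E`; elements of
order five and seven with small centralisers force `L` to be special and the normaliser to be `L.(S₅ × SL₃(2))`,
not split.
-/

set_option autoImplicit false
set_option linter.style.haveILetI false
set_option linter.unusedSectionVars false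
set_option maxRecDepth 40000

namespace CfsgLib.Sporadic.J4Type.Pentad

open Cfsg
open scoped commutatorElement

local notation "SL3" => Matrix.SpecialLinearGroup (Fin 3) (ZMod 2)
local notation "S5" => Equiv.Perm (Fin 5)

/-- A five-cycle. -/
def five₁ : S5 := finRotate 5

/-- Another five-cycle. -/
def five₂ : S5 := Equiv.swap 0 1 * finRotate 5 * Equiv.swap 0 1

theorem perm_five_facts : (∀ a : S5, a ≠ 1 → ∃ i j : Fin 5,
      (a * Equiv.swap i j * a⁻¹ * Equiv.swap i j) ^ 3 = 1 ∧ a * Equiv.swap i j * a⁻¹ * Equiv.swap i j ≠ 1) ∧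
    (∀ u : S5, u * five₁ = five₁ * u → u * five₂ = five₂ * u → u = 1) ∧
    five₁ ^ 5 = 1 ∧ five₁ ≠ 1 ∧ five₂ ^ 5 = 1 ∧ five₂ ≠ 1 := by
  refine ⟨?_, ?_, ?_, ?_, ?_, ?_⟩ <;> decide +kernel

theorem mat_order_fourteen : ∀ M : Matrix (Fin 3) (Fin 3) (ZMod 2), M ^ 14 = 1 → M ^ 7 = 1 ∨ M ^ 2 = 1 := by
  decide +kernel

/-- A normal two-subgroup of the symmetric group on five letters is trivial. -/
theorem normal_two_perm_five {P : Subgroup S5} (hn : P.Normal) (hP : IsPGroup 2 ↥P) : P = ⊥ := by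
  haveI : Fact (Nat.Prime 2) := ⟨Nat.prime_two⟩
  rw [Subgroup.eq_bot_iff_forall]
  intro a ha
  by_contra hne
  obtain ⟨i, j, hg3, hg1⟩ := perm_five_facts.1 a hne
  set g := Equiv.swap i j
  have hmem : a * g * a⁻¹ * g ∈ P := by
    have hgi : g⁻¹ = g := Equiv.swap_inv i j
    have : a * (g * a⁻¹ * g⁻¹) ∈ P := mul_mem ha (hn.conj_mem _ (inv_mem ha) g)
    rw [hgi] at this
    simpa [mul_assoc] using this
  refine hg1 ?_
  obtain ⟨k, hk⟩ := (IsPGroup.iff_card (p := 2)).1 hP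
  have h120 : Nat.card ↥P ∣ 120 := by
    have := P.card_subgroup_dvd_card
    rwa [Nat.card_eq_fintype_card (α := S5), Fintype.card_perm, Fintype.card_fin] at this
  have h8 : Nat.card ↥P ∣ 8 := by
    rw [hk] at h120 ⊢
    have : Nat.Coprime (2 ^ k) 15 := (Nat.Coprime.pow_left k (by norm_num))
    exact this.dvd_of_dvd_mul_right (show 2 ^ k ∣ 8 * 15 by norm_num; exact h120)
  obtain ⟨j, hj⟩ := h8
  have h1 : (⟨_, hmem⟩ : ↥P) ^ Nat.card ↥P = 1 := pow_card_eq_one'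
  have h2 := congrArg Subtype.val h1
  simp only [SubmonoidClass.coe_pow, OneMemClass.coe_one] at h2
  have h8' : (a * g * a⁻¹ * g) ^ 8 = 1 := by rw [hj, pow_mul, h2, one_pow]
  calc a * g * a⁻¹ * g = ((a * g * a⁻¹ * g) ^ 3) ^ 3 * ((a * g * a⁻¹ * g) ^ 8)⁻¹ := by group
    _ = 1 := by rw [hg3, h8']; simp

/-- An automorphism of order dividing seven is trivial. -/
theorem eq_id_of_seven (f : S5 →* S5) (h7 : ∀ a, f^[7] a = a) (g : S5) : f g = g := by
  classical
  haveI : Fact (Nat.Prime 5) := ⟨by norm_num⟩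
  have hinj : Function.Injective f := fun a b e =>
    (h7 a).symm.trans ((congrArg (f^[6]) e).trans (h7 b))
  have h120 : Nat.card S5 = 120 := by
    rw [Nat.card_eq_fintype_card, Fintype.card_perm, Fintype.card_fin]; rfl
  have hsyl : Nat.card (Sylow 5 S5) < 7 := by
    obtain ⟨P⟩ : Nonempty (Sylow 5 S5) := inferInstance
    have h1 : Nat.card (Sylow 5 S5) ∣ 120 := by
      rw [← h120, Sylow.card_eq_index_normalizer P]; exact Subgroup.index_dvd_card _
    have h2 := card_sylow_modEq_one (p := 5) (G := S5)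
    have key : ∀ n < 121, n ∣ 120 → n % 5 = 1 % 5 → n < 7 := by decide +kernel
    exact key _ (by have := Nat.le_of_dvd (by norm_num) h1; omega) h1 h2
  have hfix : ∀ a : S5, a ^ 5 = 1 → a ≠ 1 → f a = a := by
    intro a ha hne
    have hord : ∀ k, orderOf (f^[k] a) = 5 := fun k => by
      induction k with
      | zero => exact orderOf_eq_prime ha hne
      | succ k ih => rw [Function.iterate_succ_apply', orderOf_injective f hinj, ih]
    have hcard : ∀ k, Nat.card ↥(Subgroup.zpowers (f^[k] a)) = 5 ^ (Nat.card S5).factorization 5 := fun k => by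
      rw [Nat.card_zpowers, hord, h120, show Nat.factorization 120 5 = 1 by decide +kernel, pow_one]
    let Φ : Fin 7 → Sylow 5 S5 := fun k => Sylow.ofCard _ (hcard k.1)
    obtain ⟨i, j, hij, e⟩ : ∃ i j : Fin 7, i.1 < j.1 ∧ Φ i = Φ j := by
      by_contra hno
      push Not at hno
      have := Nat.card_le_card_of_injective Φ fun i j e => by
        rcases lt_trichotomy i.1 j.1 with hlt | heq | hlt
        · exact absurd e (hno i j hlt)
        · exact Fin.ext heq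
        · exact absurd e.symm (hno j i hlt)
      rw [Nat.card_eq_fintype_card, Fintype.card_fin] at this
      omega
    have e' : Subgroup.zpowers (f^[i.1] a) = Subgroup.zpowers (f^[j.1] a) := congrArg Sylow.toSubgroup e
    -- move back to `a`
    have hpow : ∃ d, 0 < d ∧ d < 7 ∧ f^[d] a ∈ Subgroup.zpowers a := by
      refine ⟨j.1 - i.1, by omega, by omega, ?_⟩
      obtain ⟨k, hk⟩ := Subgroup.mem_zpowers_iff.1 (e'.ge (Subgroup.mem_zpowers (f^[j.1] a)))
      have := congrArg (f^[7 - i.1]) hk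
      rw [iterate_map_zpow, ← Function.iterate_add_apply, ← Function.iterate_add_apply, show 7 - i.1 + i.1 = 7 by omega,
        show 7 - i.1 + j.1 = (j.1 - i.1) + 7 by omega, Function.iterate_add_apply, h7] at this
      exact Subgroup.mem_zpowers_iff.2 ⟨k, this⟩
    obtain ⟨d, hd0, hd7, hd⟩ := hpow
    have hrep : ∀ n, f^[n * d] a ∈ Subgroup.zpowers a := by
      intro n
      induction n with
      | zero => rw [Nat.zero_mul]; exact Subgroup.mem_zpowers a
      | succ n ih =>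
        obtain ⟨k, hk⟩ := Subgroup.mem_zpowers_iff.1 ih
        rw [show (n + 1) * d = d + n * d by ring, Function.iterate_add_apply, ← hk, iterate_map_zpow]
        exact zpow_mem hd k
    have h77 : ∀ n m, f^[7 * n + m] a = f^[m] a := fun n m => by
      induction n with
      | zero => simp
      | succ n ih => rw [show 7 * (n + 1) + m = 7 + (7 * n + m) by ring, Function.iterate_add_apply, ih, h7]
    obtain ⟨e0, n, hn⟩ : ∃ e0 n, e0 * d = 7 * n + 1 := by
      interval_cases d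
      exacts [⟨1, 0, rfl⟩, ⟨4, 1, rfl⟩, ⟨5, 2, rfl⟩, ⟨2, 1, rfl⟩, ⟨3, 2, rfl⟩, ⟨6, 5, rfl⟩]
    have h1 := hrep e0
    rw [hn, h77, Function.iterate_one, ← mem_powers_iff_mem_zpowers] at h1
    obtain ⟨k, hk⟩ := h1
    have hk' : f a = a ^ (k % 5) := by
      rw [← pow_eq_pow_mod k ha]; exact hk.symm
    have hit : ∀ m, f^[m] a = a ^ ((k % 5) ^ m) := by
      intro m
      induction m with
      | zero => simp
      | succ m ih => rw [Function.iterate_succ_apply', ih, map_pow, hk', ← pow_mul, pow_succ, mul_comm]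
    have h7a := (hit 7).symm.trans (h7 a)
    nth_rewrite 2 [← pow_one a] at h7a
    rw [pow_eq_pow_iff_modEq, orderOf_eq_prime ha hne] at h7a
    have key : ∀ r < 5, r ^ 7 % 5 = 1 → r = 1 := by decide
    rw [hk', key _ (Nat.mod_lt _ (by norm_num)) h7a, pow_one]
  obtain ⟨-, hcomm, a1, n1, a2, n2⟩ := perm_five_facts
  have hu : ∀ a : S5, a ^ 5 = 1 → a ≠ 1 → g⁻¹ * f g * a = a * (g⁻¹ * f g) := by
    intro a ha hne
    have ha' : (g * a * g⁻¹) ^ 5 = 1 := by rw [conj_pow, ha, mul_one, mul_inv_cancel]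
    have h1 := hfix _ ha' fun e => hne (conj_eq_one_iff.1 e)
    rw [map_mul, map_mul, map_inv, hfix a ha hne] at h1
    calc g⁻¹ * f g * a = g⁻¹ * (f g * a * (f g)⁻¹) * f g := by group
      _ = a * (g⁻¹ * f g) := by rw [h1]; group
  exact (inv_mul_eq_one.1 (hcomm _ (hu _ a1 n1) (hu _ a2 n2))).symm

/-- In `SL₃(2)` no involution commutes with an element of order seven. -/
theorem comm_seven {a y : SL3} (ha : a ^ 7 = 1) (hne : a ≠ 1) (hy : y * y = 1) (hc : a * y = y * a) : y = 1 := by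
  have hc' : Commute y a := hc.symm
  have h2 : y ^ 2 = 1 := by rw [pow_two, hy]
  have h : (y * a) ^ 14 = 1 := by
    rw [hc'.mul_pow, show y ^ 14 = (y ^ 2) ^ 7 by rw [← pow_mul], h2, one_pow, one_mul,
      show a ^ 14 = (a ^ 7) ^ 2 by rw [← pow_mul], ha, one_pow]
  have hM := mat_order_fourteen ((y * a : SL3) : Matrix (Fin 3) (Fin 3) (ZMod 2))
    (by rw [← Matrix.SpecialLinearGroup.coe_pow, h]; rfl)
  rcases hM with h7 | h22
  · have h7' : (y * a) ^ 7 = 1 := Subtype.ext (by rw [Matrix.SpecialLinearGroup.coe_pow, h7]; rfl)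
    rw [hc'.mul_pow, ha, mul_one, show (7 : ℕ) = 2 * 3 + 1 from rfl, pow_add, pow_mul, h2, one_pow, one_mul, pow_one] at h7'
    exact h7'
  · have h2' : (y * a) ^ 2 = 1 := Subtype.ext (by rw [Matrix.SpecialLinearGroup.coe_pow, h22]; rfl)
    rw [hc'.mul_pow, h2, one_mul] at h2'
    refine absurd ?_ hne
    calc a = a ^ 7 * ((a ^ 2) ^ 3)⁻¹ := by group
      _ = 1 := by rw [ha, h2']; simp

/-- The Sylow normaliser is large. -/
theorem card_normalizer_sylow {X : Type*} [Group X] [Finite X] {p : ℕ} [Fact p.Prime] (P : Sylow p X) {m b : ℕ}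
    (hm : Nat.card X = m) (hb : ∀ n, n ∣ m → n % p = 1 → ¬ p ∣ n → n ≤ b) :
    m ≤ b * Nat.card ↥(Subgroup.normalizer (P : Set X)) := by
  have h1 := (Subgroup.normalizer (P : Set X)).card_mul_index
  rw [← Sylow.card_eq_index_normalizer, hm] at h1
  have hmod : Nat.card (Sylow p X) % p = 1 := by
    have := card_sylow_modEq_one (p := p) (G := X)
    rwa [Nat.ModEq, Nat.mod_eq_of_lt (Nat.Prime.one_lt (Fact.out : p.Prime))] at this
  have hle := hb _ ⟨_, by rw [← h1, mul_comm]⟩ hmod fun h => by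
    rw [Nat.dvd_iff_mod_eq_zero, hmod] at h
    exact one_ne_zero h
  calc m = Nat.card ↥(Subgroup.normalizer (P : Set X)) * Nat.card (Sylow p X) := h1.symm
    _ ≤ _ := by rw [mul_comm b]; exact Nat.mul_le_mul_left _ hle

/-- The hypotheses. -/
structure Ctx {G : Type*} [Group G] (E N C L : Subgroup G) (χ : ↥C →* S5) (β : ↥N →* SL3) : Prop where
  elemE : Cfsg.IsElementaryAbelian 2 E
  cardE : Nat.card ↥E = 8
  hC : C = Subgroup.centralizer (E : Set G)
  hN : N = Subgroup.normalizer (E : Set G)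
  cardC : Nat.card ↥C = 2 ^ 15 * 120
  cardL : Nat.card ↥L = 2 ^ 15
  LC : L ≤ C
  χs : Function.Surjective χ
  χk : χ.ker = L.subgroupOf C
  βs : Function.Surjective β
  βk : β.ker = C.subgroupOf N
  trans : ∀ a ∈ E, ∀ b ∈ E, a ≠ 1 → b ≠ 1 → ∃ n ∈ N, n * a * n⁻¹ = b
  noElem : ¬ Cfsg.IsElementaryAbelian 2 L
  five : ∀ Q : Subgroup G, Nat.card ↥Q = 5 →
    Nat.card ↥(Subgroup.normalizer (Q : Set G)) = 26880 ∧ Nat.card ↥(Subgroup.centralizer (Q : Set G)) = 6720 ∧
      ∃ J : Subgroup G, J ≤ Subgroup.centralizer (Q : Set G) ∧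
        (∀ a ∈ Subgroup.centralizer (Q : Set G), a * a = 1 → a ∈ J) ∧
        ⁅Subgroup.centralizer (Q : Set G), Subgroup.centralizer (Q : Set G)⁆ ≤ J ∧
        ∃ (E' : Subgroup ↥J) (_ : E'.Normal), Nat.card ↥E' = 8 ∧ Nonempty (↥J ⧸ E' ≃* SL3) ∧
          ∀ K : Subgroup ↥J, ¬ E'.IsComplement' K
  seven : ∀ S : Subgroup G, Nat.card ↥S = 7 →
    Nat.card ↥(Subgroup.normalizer (S : Set G)) = 2520 ∧ Nat.card ↥(Subgroup.centralizer (S : Set G)) = 840 ∧
      ∃ I : Subgroup G, I ≤ Subgroup.centralizer (S : Set G) ∧ Nonempty (↥I ≃* S5)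
  conjFive : ∀ Q Q' : Subgroup G, Nat.card ↥Q = 5 → Nat.card ↥Q' = 5 →
    ∃ g : G, Q'.map (MulAut.conj g).toMonoidHom = Q

namespace Ctx

variable {G : Type*} [Group G] [Finite G] {E N C L : Subgroup G} {χ : ↥C →* S5} {β : ↥N →* SL3}
  (h : Ctx E N C L χ β)
include h

theorem C_le_N : C ≤ N := by rw [h.hC, h.hN]; exact Subgroup.centralizer_le_normalizer _

theorem L_le_N : L ≤ N := h.LC.trans h.C_le_N

theorem E_le_C : E ≤ C := by
  rw [h.hC]
  exact fun a ha b hb => congrArg Subtype.val (h.elemE.1.is_comm.comm (⟨b, hb⟩ : ↥E) ⟨a, ha⟩)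

theorem conj_C {n c : G} (hn : n ∈ N) (hc : c ∈ C) : n * c * n⁻¹ ∈ C := by
  have : (⟨n, hn⟩ : ↥N) * ⟨c, h.C_le_N hc⟩ * ⟨n, hn⟩⁻¹ ∈ β.ker :=
    (inferInstance : β.ker.Normal).conj_mem _ (by rw [h.βk]; exact hc) _
  rwa [h.βk] at this

theorem conj_E {n a : G} (hn : n ∈ N) (ha : a ∈ E) : n * a * n⁻¹ ∈ E := by
  rw [h.hN] at hn
  exact (Subgroup.mem_normalizer_iff.1 hn a).1 ha

theorem isPGroup_L : IsPGroup 2 ↥L := IsPGroup.of_card h.cardL

/-- A two-subgroup normalised by `C` lies in `L`. -/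
theorem two_le_L {X : Subgroup G} (hX : X ≤ C) (h2 : IsPGroup 2 ↥X) (hn : ∀ c ∈ C, ∀ a ∈ X, c * a * c⁻¹ ∈ X) :
    X ≤ L := by
  intro a ha
  have hn' : (X.subgroupOf C).Normal := ⟨fun b hb c => hn _ c.2 _ hb⟩
  have hP : IsPGroup 2 ↥((X.subgroupOf C).map χ) :=
    (h2.of_equiv (Subgroup.subgroupOfEquivOfLe hX).symm).map χ
  have hbot := normal_two_perm_five (Subgroup.Normal.map hn' χ h.χs) hP
  have hm : χ ⟨a, hX ha⟩ ∈ (X.subgroupOf C).map χ := ⟨_, ha, rfl⟩
  rw [hbot, Subgroup.mem_bot, ← MonoidHom.mem_ker, h.χk] at hm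
  exact hm

theorem E_le_L : E ≤ L :=
  h.two_le_L h.E_le_C (IsPGroup.of_card (n := 3) (h.cardE.trans (by norm_num))) fun _ hc _ ha => h.conj_E (h.C_le_N hc) ha

theorem conj_L {n a : G} (hn : n ∈ N) (ha : a ∈ L) : n * a * n⁻¹ ∈ L := by
  refine h.two_le_L (X := L.map (MulAut.conj n).toMonoidHom) ?_ (h.isPGroup_L.map _) ?_ ⟨a, ha, rfl⟩
  · rintro _ ⟨b, hb, rfl⟩
    exact h.conj_C hn (h.LC hb)
  · rintro c hc _ ⟨b, hb, rfl⟩
    have hc' : n⁻¹ * c * n ∈ C := by simpa using h.conj_C (inv_mem hn) hc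
    have hb' : n⁻¹ * c * n * b * (n⁻¹ * c * n)⁻¹ ∈ L := by
      have : (⟨_, hc'⟩ : ↥C) * ⟨b, h.LC hb⟩ * (⟨_, hc'⟩ : ↥C)⁻¹ ∈ χ.ker :=
        (inferInstance : χ.ker.Normal).conj_mem _ (by rw [h.χk]; exact hb) _
      rwa [h.χk] at this
    refine ⟨_, hb', ?_⟩
    show n * (n⁻¹ * c * n * b * (n⁻¹ * c * n)⁻¹) * n⁻¹ = c * (n * b * n⁻¹) * c⁻¹
    group

theorem normal_L : (L.subgroupOf N).Normal := ⟨fun _ ha n => h.conj_L n.2 ha⟩

theorem card_N : Nat.card ↥N = 2 ^ 15 * 120 * 168 := by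
  have e := β.ker.card_mul_index
  rw [Subgroup.index_ker, MonoidHom.range_eq_top.2 h.βs, Subgroup.card_top, card_SL3, h.βk,
    Nat.card_congr (Subgroup.subgroupOfEquivOfLe h.C_le_N).toEquiv, h.cardC] at e
  exact e.symm

theorem χ_eq {a b : G} (ha : a ∈ C) (hb : b ∈ C) (e : a⁻¹ * b ∈ L) : χ ⟨a, ha⟩ = χ ⟨b, hb⟩ := by
  have hk : (⟨a, ha⟩ : ↥C)⁻¹ * ⟨b, hb⟩ ∈ χ.ker := by rw [h.χk]; exact e
  rwa [MonoidHom.mem_ker, map_mul, map_inv, inv_mul_eq_one] at hk

/-- An element of order seven acting on `E` and centralising `C` modulo `L`. -/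
theorem exists_seven : ∃ (s : G) (hs : s ∈ N), orderOf s = 7 ∧ β ⟨s, hs⟩ ≠ 1 ∧
    ∀ c ∈ C, s * c * s⁻¹ * c⁻¹ ∈ L := by
  haveI : Fact (Nat.Prime 7) := ⟨by norm_num⟩
  obtain ⟨s, hs⟩ := exists_prime_orderOf_dvd_card' (G := ↥N) 7 (by rw [h.card_N]; norm_num)
  have hs' : orderOf (s : G) = 7 := by rw [Subgroup.orderOf_coe, hs]
  have hne : β s ≠ 1 := by
    intro e
    have e' : (s : G) ∈ C := by rw [← MonoidHom.mem_ker, h.βk] at e; exact e
    have := Subgroup.orderOf_dvd_natCard C e'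
    rw [hs', h.cardC] at this
    norm_num at this
  refine ⟨s, s.2, hs', hne, ?_⟩
  choose lift hlift using h.χs
  let f : S5 →* S5 :=
    { toFun := fun a => χ ⟨(s : G) * (lift a : G) * (s : G)⁻¹, h.conj_C s.2 (lift a).2⟩
      map_one' := by
        rw [← map_one χ]
        refine (h.χ_eq _ _ ?_).symm
        have hm : ((lift 1 : ↥C) : G) ∈ L := by
          have : lift 1 ∈ χ.ker := hlift 1
          rwa [h.χk] at this
        simpa using h.conj_L s.2 hm
      map_mul' := fun a b => by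
        rw [← map_mul χ]
        refine h.χ_eq _ _ ?_
        have hm : ((lift (a * b) : ↥C) : G)⁻¹ * ((lift a : G) * lift b) ∈ L := by
          have : (lift (a * b))⁻¹ * (lift a * lift b) ∈ χ.ker := by
            rw [MonoidHom.mem_ker, map_mul, map_mul, map_inv, hlift, hlift, hlift]; group
          rwa [h.χk] at this
        have := h.conj_L s.2 hm
        simpa [mul_assoc] using this }
  have hstep : ∀ c : ↥C, f (χ c) = χ ⟨(s : G) * c * (s : G)⁻¹, h.conj_C s.2 c.2⟩ := fun c => by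
    refine h.χ_eq _ _ ?_
    have hm : ((lift (χ c) : ↥C) : G)⁻¹ * c ∈ L := by
      have : (lift (χ c))⁻¹ * c ∈ χ.ker := by rw [MonoidHom.mem_ker, map_mul, map_inv, hlift, inv_mul_cancel]
      rwa [h.χk] at this
    have := h.conj_L s.2 hm
    simpa [mul_assoc] using this
  have hit : ∀ (n : ℕ) (c : ↥C), f^[n] (χ c) =
      χ ⟨(s : G) ^ n * c * ((s : G) ^ n)⁻¹, h.conj_C (pow_mem s.2 n) c.2⟩ := by
    intro n
    induction n with
    | zero => intro c; simp
    | succ n ih =>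
      intro c
      rw [Function.iterate_succ_apply', ih, hstep]
      exact congrArg χ (Subtype.ext (show (s : G) * ((s : G) ^ n * c * ((s : G) ^ n)⁻¹) * (s : G)⁻¹ = (s : G) ^ (n + 1) * c * ((s : G) ^ (n + 1))⁻¹ by rw [pow_succ']; group))
  have hid := eq_id_of_seven f fun a => by
    rw [← hlift a, hit 7]
    refine congrArg χ (Subtype.ext ?_)
    show (s : G) ^ 7 * _ * ((s : G) ^ 7)⁻¹ = _
    rw [← hs', pow_orderOf_eq_one]
    simp
  intro c hc
  have h1 := (hstep ⟨c, hc⟩).symm.trans (hid _)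
  have h2 : (⟨(s : G) * c * (s : G)⁻¹, h.conj_C s.2 hc⟩ : ↥C) * ⟨c, hc⟩⁻¹ ∈ χ.ker := by
    rw [MonoidHom.mem_ker, map_mul, map_inv, h1, mul_inv_cancel]
  rwa [h.χk] at h2

/-- An element centralising `C` modulo `L` lifts every element of the quotient by `C`. -/
theorem exists_central (y : SL3) : ∃ n : ↥N, β n = y ∧ ∀ c ∈ C, (n : G) * c * (n : G)⁻¹ * c⁻¹ ∈ L := by
  obtain ⟨s, hs, -, hne, hsc⟩ := h.exists_seven
  let Z : Subgroup ↥N :=
    { carrier := {n | ∀ c ∈ C, (n : G) * c * (n : G)⁻¹ * c⁻¹ ∈ L}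
      one_mem' := fun c _ => by simp
      mul_mem' := fun {a b} ha hb c hc => by
        have h1 := ha _ (h.conj_C b.2 hc)
        have h2 := hb c hc
        have := mul_mem h1 h2
        simpa [mul_assoc] using this
      inv_mem' := fun {a} ha c hc => by
        have := inv_mem (ha _ (h.conj_C (inv_mem a.2) hc))
        simpa [mul_assoc] using this }
  have hZn : Z.Normal := ⟨fun a ha n c hc => by
    have h1 := h.conj_L n.2 (ha _ (h.conj_C (inv_mem n.2) hc))
    simpa [mul_assoc] using h1⟩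
  haveI := simple_SL3
  have htop := (Subgroup.Normal.map hZn β h.βs).eq_bot_or_eq_top.resolve_left fun e => hne (by
    have : β ⟨s, hs⟩ ∈ Z.map β := ⟨⟨s, hs⟩, fun c hc => hsc c hc, rfl⟩
    rwa [e, Subgroup.mem_bot] at this)
  obtain ⟨n, hn, e⟩ : y ∈ Z.map β := htop ▸ Subgroup.mem_top y
  exact ⟨n, e, hn⟩

/-- The map onto the product. -/
theorem exists_gamma : ∃ Γ : ↥N →* S5 × SL3, Function.Surjective Γ ∧ Γ.ker = L.subgroupOf N ∧
    (∀ n, (Γ n).2 = β n) ∧ ∀ c : ↥C, Γ ⟨c, h.C_le_N c.2⟩ = (χ c, 1) := by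
  choose w hwβ hwc using h.exists_central
  have hC : ∀ n : ↥N, ((n : G) * ((w (β n) : ↥N) : G)⁻¹) ∈ C := fun n => by
    have : n * (w (β n))⁻¹ ∈ β.ker := by rw [MonoidHom.mem_ker, map_mul, map_inv, hwβ, mul_inv_cancel]
    rwa [h.βk] at this
  -- the kernel of both maps
  have hLker : ∀ v : ↥N, β v = 1 → (∀ c ∈ C, (v : G) * c * (v : G)⁻¹ * c⁻¹ ∈ L) → (v : G) ∈ L := by
    intro v hv hvc
    have hvC : (v : G) ∈ C := by rw [← MonoidHom.mem_ker, h.βk] at hv; exact hv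
    have hcen : ∀ b : S5, χ ⟨v, hvC⟩ * b = b * χ ⟨v, hvC⟩ := by
      intro b
      obtain ⟨c, rfl⟩ := h.χs b
      have : (⟨v, hvC⟩ : ↥C) * c * (⟨v, hvC⟩ : ↥C)⁻¹ * c⁻¹ ∈ χ.ker := by rw [h.χk]; exact hvc c c.2
      rw [MonoidHom.mem_ker, map_mul, map_mul, map_mul, map_inv, map_inv, mul_inv_eq_one, mul_inv_eq_iff_eq_mul] at this
      exact this
    have h1 := perm_five_facts.2.1 _ (hcen five₁) (hcen five₂)
    rw [← MonoidHom.mem_ker, h.χk] at h1
    exact h1
  let γ : ↥N → S5 := fun n => χ ⟨_, hC n⟩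
  have hmul : ∀ a b, γ (a * b) = γ a * γ b := by
    intro a b
    show χ _ = χ _ * χ _
    rw [← map_mul χ]
    refine h.χ_eq _ _ ?_
    set wa := w (β a)
    set wb := w (β b)
    set wab := w (β (a * b))
    have hv : β (wab⁻¹ * (wa * wb)) = 1 := by
      simp only [wab, wa, wb, map_mul, map_inv, hwβ, inv_mul_cancel]
    have hvc : ∀ c ∈ C, ((wab⁻¹ * (wa * wb) : ↥N) : G) * c * ((wab⁻¹ * (wa * wb) : ↥N) : G)⁻¹ * c⁻¹ ∈ L := by
      intro c hc
      push_cast
      have hc1 := h.conj_C wb.2 hc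
      have hc2 := h.conj_C wa.2 hc1
      have h1 := hwc (β b) c hc
      have h2 := hwc (β a) _ hc1
      have h3 := inv_mem (hwc (β (a * b)) _ (h.conj_C (inv_mem wab.2) hc2))
      have := mul_mem (mul_mem h3 h2) h1
      simpa [wa, wb, wab, mul_assoc] using this
    have hvL := hLker _ hv hvc
    push_cast at hvL
    have hm := h.conj_L (inv_mem wa.2) (hwc (β a) _ (inv_mem (hC b)))
    have hm' := h.conj_L wab.2 (mul_mem (h.conj_L (inv_mem wb.2) hm) (inv_mem hvL))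
    convert hm' using 1
    show (((a * b : ↥N) : G) * (wab : G)⁻¹)⁻¹ * ((a : G) * (wa : G)⁻¹ * ((b : G) * (wb : G)⁻¹)) = _
    simp only [wa, wb, wab]
    push_cast
    group
  let Γ : ↥N →* S5 × SL3 := MonoidHom.mk' (fun n => (γ n, β n)) fun a b => Prod.ext (hmul a b) (map_mul β a b)
  have hγC : ∀ c : ↥C, γ ⟨c, h.C_le_N c.2⟩ = χ c := by
    intro c
    refine h.χ_eq _ _ ?_
    have hb : β ⟨c, h.C_le_N c.2⟩ = 1 := by rw [← MonoidHom.mem_ker, h.βk]; exact c.2
    have hw := hLker (w (β ⟨c, h.C_le_N c.2⟩)) (by rw [hwβ, hb]) (hwc _)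
    simpa [mul_assoc] using hw
  have hΓC : ∀ c : ↥C, Γ ⟨c, h.C_le_N c.2⟩ = (χ c, 1) := fun c =>
    Prod.ext (hγC c) (show β _ = 1 by rw [← MonoidHom.mem_ker, h.βk]; exact c.2)
  refine ⟨Γ, ?_, ?_, fun _ => rfl, hΓC⟩
  · rintro ⟨a, y⟩
    obtain ⟨n, hn⟩ := h.βs y
    obtain ⟨c, hc⟩ := h.χs (a * (γ n)⁻¹)
    refine ⟨⟨c, h.C_le_N c.2⟩ * n, ?_⟩
    rw [map_mul, hΓC, hc]
    refine Prod.ext ?_ ?_
    · show a * (γ n)⁻¹ * γ n = a
      group
    · show 1 * β n = y
      rw [one_mul, hn]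
  · ext n
    rw [MonoidHom.mem_ker, Subgroup.mem_subgroupOf]
    constructor
    · intro e
      have hb : β n = 1 := congrArg Prod.snd e
      have hnC : (n : G) ∈ C := by rw [← MonoidHom.mem_ker, h.βk] at hb; exact hb
      have := (hΓC ⟨n, hnC⟩).symm.trans e
      have h1 : χ ⟨n, hnC⟩ = 1 := congrArg Prod.fst this
      rw [← MonoidHom.mem_ker, h.χk] at h1
      exact h1
    · intro hn
      have := hΓC ⟨n, h.LC hn⟩
      rw [show χ ⟨n, h.LC hn⟩ = 1 by rw [← MonoidHom.mem_ker, h.χk]; exact hn] at this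
      exact this

end Ctx

end CfsgLib.Sporadic.J4Type.Pentad
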