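import Cfsg.Agent.Lib.Sporadic.J4Type.Pentad.Struct

/-!
# The normaliser of the special group: counting in it
-/

set_option autoImplicit false
set_option linter.style.haveILetI false
set_option linter.unusedSectionVars false
set_option maxRecDepth 40000

namespace CfsgLib.Sporadic.J4Type.Pentad

open Cfsg
open scoped commutatorElement

local notation "SL3" => Matrix.SpecialLinearGroup (Fin 3) (ZMod 2)
local notation "S5" => Equiv.Perm (Fin 5)

theorem card_S5 : Nat.card S5 = 120 := by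
  rw [Nat.card_eq_fintype_card, Fintype.card_perm, Fintype.card_fin]; rfl

theorem card_prod_le {A B : Type*} [Group A] [Group B] [Finite A] [Finite B] (X : Subgroup A) (Y : Subgroup B) :
    Nat.card ↥(X.prod Y) = Nat.card ↥X * Nat.card ↥Y := by
  rw [Nat.card_congr (X.prodEquiv Y).toEquiv, Nat.card_prod]

theorem mem_zpowers_prod_left {A B : Type*} [Group A] [Group B] {a b : A} (h : b ∈ Subgroup.zpowers a) :
    ((b, 1) : A × B) ∈ Subgroup.zpowers (a, 1) := by
  obtain ⟨k, hk⟩ := Subgroup.mem_zpowers_iff.1 h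
  exact Subgroup.mem_zpowers_iff.2 ⟨k, Prod.ext (by simpa using hk) (by simp)⟩

theorem mem_zpowers_prod_right {A B : Type*} [Group A] [Group B] {a b : B} (h : b ∈ Subgroup.zpowers a) :
    ((1, b) : A × B) ∈ Subgroup.zpowers (1, a) := by
  obtain ⟨k, hk⟩ := Subgroup.mem_zpowers_iff.1 h
  exact Subgroup.mem_zpowers_iff.2 ⟨k, Prod.ext (by simp) (by simpa using hk)⟩

theorem card_normalizer_five {σ : S5} (h : orderOf σ = 5) :
    20 ≤ Nat.card ↥(Subgroup.normalizer (Subgroup.zpowers σ : Set S5)) := by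
  haveI : Fact (Nat.Prime 5) := ⟨by norm_num⟩
  have hc : Nat.card ↥(Subgroup.zpowers σ) = 5 ^ (Nat.card S5).factorization 5 := by
    rw [Nat.card_zpowers, h, card_S5, show Nat.factorization 120 5 = 1 by decide +kernel, pow_one]
  have hk : ∀ n < 121, n ∣ 120 → n % 5 = 1 → n ≤ 6 := by decide +kernel
  have := card_normalizer_sylow (Sylow.ofCard _ hc) card_S5
    (b := 6) fun n hn h1 _ => hk n (by have := Nat.le_of_dvd (by norm_num) hn; omega) hn h1
  have h' : 120 ≤ 6 * Nat.card ↥(Subgroup.normalizer (Subgroup.zpowers σ : Set S5)) := this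
  omega

theorem card_normalizer_seven {y : SL3} (h : orderOf y = 7) :
    21 ≤ Nat.card ↥(Subgroup.normalizer (Subgroup.zpowers y : Set SL3)) := by
  haveI : Fact (Nat.Prime 7) := ⟨by norm_num⟩
  have hc : Nat.card ↥(Subgroup.zpowers y) = 7 ^ (Nat.card SL3).factorization 7 := by
    rw [Nat.card_zpowers, h, card_SL3, show Nat.factorization 168 7 = 1 by decide +kernel, pow_one]
  have hk : ∀ n < 169, n ∣ 168 → n % 7 = 1 → n ≤ 8 := by decide +kernel
  have := card_normalizer_sylow (Sylow.ofCard _ hc) card_SL3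
    (b := 8) fun n hn h1 _ => hk n (by have := Nat.le_of_dvd (by norm_num) hn; omega) hn h1
  have h' : 168 ≤ 8 * Nat.card ↥(Subgroup.normalizer (Subgroup.zpowers y : Set SL3)) := this
  omega

/-- With the map onto the product. -/
structure Prd {G : Type*} [Group G] {E N C L : Subgroup G} {χ : ↥C →* S5} {β : ↥N →* SL3}
    (h : Ctx E N C L χ β) (Γ : ↥N →* S5 × SL3) : Prop where
  surj : Function.Surjective Γ
  ker : Γ.ker = L.subgroupOf N
  snd : ∀ n, (Γ n).2 = β n

namespace Prd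

variable {G : Type*} [Group G] [Finite G] {E N C L : Subgroup G} {χ : ↥C →* S5} {β : ↥N →* SL3}
  {h : Ctx E N C L χ β} {Γ : ↥N →* S5 × SL3} (hp : Prd h Γ)
include hp

theorem eq_one_iff (n : ↥N) : Γ n = 1 ↔ (n : G) ∈ L := by
  rw [← MonoidHom.mem_ker, hp.ker]; rfl

theorem order_map {q : ℕ} (hq : q.Prime) (hq2 : q ≠ 2) {n : ↥N} (hn : orderOf (n : G) = q) :
    orderOf (Γ n) = q := by
  haveI : Fact q.Prime := ⟨hq⟩
  rw [Subgroup.orderOf_coe] at hn
  refine orderOf_eq_prime (by rw [← map_pow, ← hn, pow_orderOf_eq_one, map_one]) fun e => ?_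
  have h1 := Subgroup.orderOf_dvd_natCard L ((hp.eq_one_iff n).1 e)
  rw [Subgroup.orderOf_coe, hn, h.cardL] at h1
  exact hq2 ((Nat.prime_dvd_prime_iff_eq hq Nat.prime_two).1 (hq.dvd_of_dvd_pow h1))

/-- An element of the product normalising the image of an element of odd prime order lifts to the normaliser. -/
theorem exists_lift {q : ℕ} (hq : q.Prime) (hq2 : q ≠ 2) {u : ↥N} (hu : orderOf (u : G) = q) {y : S5 × SL3}
    (hy : y * Γ u * y⁻¹ ∈ Subgroup.zpowers (Γ u)) :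
    ∃ m : ↥N, Γ m = y ∧ (m : G) ∈ Subgroup.normalizer (Subgroup.zpowers (u : G) : Set G) := by
  haveI : Fact q.Prime := ⟨hq⟩
  obtain ⟨n, rfl⟩ := hp.surj y
  set P := Subgroup.zpowers u with hP
  set X := (P.map Γ).comap Γ with hX
  have hou : orderOf u = q := by rw [← hu, Subgroup.orderOf_coe]
  have hPX : P ≤ X := fun a ha => ⟨a, ha, rfl⟩
  have hmem : n * u * n⁻¹ ∈ X := by
    show Γ _ ∈ P.map Γ
    rw [map_mul, map_mul, map_inv, MonoidHom.map_zpowers]
    exact hy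
  have hnPX : P.map (MulAut.conj n).toMonoidHom ≤ X := by
    rw [MonoidHom.map_zpowers, Subgroup.zpowers_le]; exact hmem
  have hcardX : Nat.card ↥X ∣ 2 ^ 15 * q := by
    let φ : ↥X →* S5 × SL3 := Γ.comp X.subtype
    have e := φ.ker.card_mul_index
    rw [Subgroup.index_ker] at e
    rw [← e]
    refine Nat.mul_dvd_mul ?_ ?_
    · have hk : φ.ker.map X.subtype ≤ L.subgroupOf N := by
        rintro _ ⟨a, ha, rfl⟩
        exact (hp.eq_one_iff _).1 ha
      have := Subgroup.card_dvd_of_le hk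
      rwa [Subgroup.card_map_of_injective X.subtype_injective,
        Nat.card_congr (Subgroup.subgroupOfEquivOfLe h.L_le_N).toEquiv, h.cardL] at this
    · have hr : φ.range ≤ P.map Γ := by rintro _ ⟨a, rfl⟩; exact a.2
      refine (Subgroup.card_dvd_of_le hr).trans ?_
      rw [MonoidHom.map_zpowers, Nat.card_zpowers, hp.order_map hq hq2 hu]
  have hq' : ∀ T : Subgroup ↥N, T ≤ X → Nat.card ↥T = q →
      ∃ S : Sylow q ↥X, (S : Subgroup ↥X) = T.subgroupOf X := by
    intro T hT hc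
    have hc' : Nat.card ↥(T.subgroupOf X) = q := by rw [Nat.card_congr (Subgroup.subgroupOfEquivOfLe hT).toEquiv, hc]
    obtain ⟨S, hS⟩ := (IsPGroup.of_card (n := 1) (hc'.trans (pow_one q).symm) : IsPGroup q ↥(T.subgroupOf X)).exists_le_sylow
    refine ⟨S, (Subgroup.eq_of_le_of_card_ge hS ?_).symm⟩
    obtain ⟨k, hk⟩ := (IsPGroup.iff_card (p := q)).1 S.isPGroup'
    have hdvd : q ^ k ∣ 2 ^ 15 * q := hk ▸ (S : Subgroup ↥X).card_subgroup_dvd_card.trans hcardX
    have : k ≤ 1 := by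
      by_contra hk1
      have h2 : q * q ∣ 2 ^ 15 * q := (show q * q ∣ q ^ k by rw [← pow_two]; exact pow_dvd_pow q (by omega)).trans hdvd
      have h3 : q ∣ 2 ^ 15 := Nat.dvd_of_mul_dvd_mul_right hq.pos h2
      exact hq2 ((Nat.prime_dvd_prime_iff_eq hq Nat.prime_two).1 (hq.dvd_of_dvd_pow h3))
    rw [hk, hc']
    calc q ^ k ≤ q ^ 1 := Nat.pow_le_pow_right hq.pos this
      _ = q := pow_one q
  have hPc : Nat.card ↥P = q := by rw [hP, Nat.card_zpowers, hou]
  obtain ⟨S₁, hS₁⟩ := hq' P hPX hPc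
  obtain ⟨S₂, hS₂⟩ := hq' _ hnPX (by
    rw [Subgroup.card_map_of_injective (f := (MulAut.conj n).toMonoidHom) (MulAut.conj n).injective, hPc])
  obtain ⟨x, hx⟩ := MulAction.exists_smul_eq (↥X) S₁ S₂
  obtain ⟨p0, hp0, e0⟩ : Γ (x : ↥N) ∈ P.map Γ := x.2
  set l := (x : ↥N) * p0⁻¹
  have hl : Γ l = 1 := by rw [map_mul, map_inv, ← e0, mul_inv_cancel]
  refine ⟨l⁻¹ * n, by rw [map_mul, map_inv, hl, inv_one, one_mul], ?_⟩
  -- the element moves `u` into its own powers
  have hin : (x : ↥N)⁻¹ * (n * u * n⁻¹) * (x : ↥N) ∈ P := by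
    have h2 : (⟨n * u * n⁻¹, hmem⟩ : ↥X) ∈ (S₂ : Subgroup ↥X) := by
      rw [hS₂, Subgroup.mem_subgroupOf]; exact ⟨u, Subgroup.mem_zpowers u, rfl⟩
    rw [← hx, Sylow.coe_subgroup_smul, Subgroup.mem_pointwise_smul_iff_inv_smul_mem, hS₁, Subgroup.mem_subgroupOf] at h2
    simpa [MulAut.conj, mul_assoc] using h2
  have hfin : (l⁻¹ * n) * u * (l⁻¹ * n)⁻¹ ∈ P := by
    have := mul_mem (mul_mem hp0 hin) (inv_mem hp0)
    simpa [l, mul_assoc] using this
  have hfG : ((l⁻¹ * n : ↥N) : G) * u * ((l⁻¹ * n : ↥N) : G)⁻¹ ∈ Subgroup.zpowers (u : G) := by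
    obtain ⟨k, hk⟩ := Subgroup.mem_zpowers_iff.1 hfin
    refine Subgroup.mem_zpowers_iff.2 ⟨k, ?_⟩
    rw [← Subgroup.coe_zpow, hk]
    rfl
  have hle : (Subgroup.zpowers (u : G)).map (MulAut.conj ((l⁻¹ * n : ↥N) : G)).toMonoidHom ≤ Subgroup.zpowers (u : G) := by
    rw [MonoidHom.map_zpowers, Subgroup.zpowers_le]; exact hfG
  have heq := Subgroup.eq_of_le_of_card_ge hle (by
    rw [Subgroup.card_map_of_injective (f := (MulAut.conj ((l⁻¹ * n : ↥N) : G)).toMonoidHom) (MulAut.conj _).injective])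
  refine Subgroup.mem_normalizer_iff.2 fun a => ⟨fun ha => heq.le ⟨a, ha, rfl⟩, fun ha => ?_⟩
  obtain ⟨b, hb, eb⟩ := heq.ge ha
  rwa [← (MulAut.conj ((l⁻¹ * n : ↥N) : G)).injective eb]

/-- Counting. -/
theorem card_ge {T : Subgroup G} (hT : T ≤ N) {Y : Subgroup (S5 × SL3)} {D : Subgroup G} (hD : D ≤ L) (hDT : D ≤ T)
    (hY : ∀ y ∈ Y, ∃ m : ↥N, Γ m = y ∧ (m : G) ∈ T) : Nat.card ↥D * Nat.card ↥Y ≤ Nat.card ↥T := by
  let φ : ↥T →* S5 × SL3 := Γ.comp (Subgroup.inclusion hT)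
  have e := φ.ker.card_mul_index
  rw [Subgroup.index_ker] at e
  rw [← e]
  refine Nat.mul_le_mul (Nat.card_le_card_of_injective
    (fun d => (⟨⟨d, hDT d.2⟩, (hp.eq_one_iff _).2 (hD d.2)⟩ : ↥φ.ker))
    (fun a b e => Subtype.ext (congrArg (fun t : ↥φ.ker => ((t : ↥T) : G)) e))) ?_
  refine Subgroup.card_le_of_le fun y hy => ?_
  obtain ⟨m, em, hm⟩ := hY y hy
  exact ⟨⟨m, hm⟩, em⟩

/-- Lifts to the centraliser. -/
theorem exists_lift_cent {q : ℕ} (hq : q.Prime) (hq2 : q ≠ 2) {u : ↥N} (hu : orderOf (u : G) = q) {y : S5 × SL3}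
    (hy : y * Γ u = Γ u * y) :
    ∃ m : ↥N, Γ m = y ∧ (m : G) ∈ Subgroup.centralizer (Subgroup.zpowers (u : G) : Set G) := by
  obtain ⟨m, rfl, hm⟩ := hp.exists_lift hq hq2 hu (y := y) (by rw [hy, mul_inv_cancel_right]; exact Subgroup.mem_zpowers _)
  refine ⟨m, rfl, ?_⟩
  have h1 : (m : G) * u * (m : G)⁻¹ * (u : G)⁻¹ ∈ Subgroup.zpowers (u : G) :=
    mul_mem ((Subgroup.mem_normalizer_iff.1 hm _).1 (Subgroup.mem_zpowers _)) (inv_mem (Subgroup.mem_zpowers _))
  have h2 : (m : G) * u * (m : G)⁻¹ * (u : G)⁻¹ ∈ L := by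
    refine (hp.eq_one_iff (m * u * m⁻¹ * u⁻¹)).1 ?_
    rw [map_mul, map_mul, map_mul, map_inv, map_inv, hy]; group
  have h3 : (m : G) * u * (m : G)⁻¹ * (u : G)⁻¹ = 1 := by
    have a := Subgroup.orderOf_dvd_natCard _ h1
    have b := Subgroup.orderOf_dvd_natCard _ h2
    rw [Nat.card_zpowers, hu] at a
    rw [h.cardL] at b
    have hc : Nat.Coprime q (2 ^ 15) := ((Nat.coprime_primes hq Nat.prime_two).2 hq2).pow_right _
    exact orderOf_eq_one_iff.1 (Nat.eq_one_of_dvd_one (hc ▸ Nat.dvd_gcd a b))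
  rw [mul_inv_eq_one, mul_inv_eq_iff_eq_mul] at h3
  intro b hb
  obtain ⟨k, rfl⟩ := Subgroup.mem_zpowers_iff.1 hb
  exact ((show Commute (m : G) u from h3).zpow_right k).eq.symm

/-- An element of order seven has a small centraliser, inside `N`. -/
theorem seven_data {s : ↥N} (hs : orderOf (s : G) = 7) :
    Subgroup.centralizer (Subgroup.zpowers (s : G) : Set G) ≤ N ∧
    Subgroup.normalizer (Subgroup.zpowers (s : G) : Set G) ≤ N ∧
    ∀ a ∈ L, (s : G) * a = a * s → a = 1 := by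
  haveI : Fact (Nat.Prime 7) := ⟨by norm_num⟩
  have ho := hp.order_map (by norm_num) (by norm_num) hs
  have hΓ : Γ s = (1, β s) := by
    refine Prod.ext ?_ (hp.snd s)
    have h7 : (Γ s).1 ^ 7 = 1 := by rw [← Prod.pow_fst, ← ho, pow_orderOf_eq_one]; rfl
    have a := orderOf_dvd_of_pow_eq_one h7
    have b := orderOf_dvd_natCard (Γ s).1
    rw [card_S5] at b
    exact orderOf_eq_one_iff.1 (Nat.eq_one_of_dvd_one (Nat.dvd_gcd a b))
  have hy : orderOf (β s) = 7 := by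
    rw [← ho, hΓ, Prod.orderOf_mk, orderOf_one, Nat.lcm_one_left]
  obtain ⟨hn, hc, -⟩ := h.seven (Subgroup.zpowers (s : G)) (by rw [Nat.card_zpowers, hs])
  set T := Subgroup.centralizer (Subgroup.zpowers (s : G) : Set G)
  set U := Subgroup.normalizer (Subgroup.zpowers (s : G) : Set G)
  set D := L ⊓ T
  have hD : Nat.card ↥D * 840 ≤ Nat.card ↥(N ⊓ T) := by
    have hY : Nat.card ↥((⊤ : Subgroup S5).prod (Subgroup.zpowers (β s))) = 840 := by
      rw [card_prod_le, Subgroup.card_top, card_S5, Nat.card_zpowers, hy]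
    rw [← hY]
    refine hp.card_ge inf_le_left inf_le_left (le_inf (inf_le_left.trans h.L_le_N) inf_le_right) ?_
    rintro ⟨a, b⟩ ⟨-, hb⟩
    obtain ⟨m, e, hm⟩ := hp.exists_lift_cent (by norm_num) (by norm_num) hs (y := (a, b)) (by
      obtain ⟨k, rfl⟩ := Subgroup.mem_zpowers_iff.1 hb
      rw [hΓ]
      exact Prod.ext (by simp) ((Commute.self_zpow (β s) k).eq.symm))
    exact ⟨m, e, m.2, hm⟩
  have hNT : Nat.card ↥(N ⊓ T) ≤ 840 := hc ▸ Subgroup.card_le_of_le inf_le_right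
  have hU : 2520 ≤ Nat.card ↥(N ⊓ U) := by
    have h1 : 2520 ≤ Nat.card ↥(⊥ : Subgroup G) *
        Nat.card ↥((⊤ : Subgroup S5).prod (Subgroup.normalizer (Subgroup.zpowers (β s) : Set SL3))) := by
      rw [card_prod_le, Subgroup.card_top, card_S5, Subgroup.card_bot, one_mul]
      have := card_normalizer_seven hy
      omega
    refine h1.trans (hp.card_ge inf_le_left bot_le bot_le ?_)
    rintro ⟨a, b⟩ ⟨-, hb⟩
    obtain ⟨m, e, hm⟩ := hp.exists_lift (by norm_num) (by norm_num) hs (y := (a, b)) (by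
      rw [hΓ, show ((a, b) : S5 × SL3) * (1, β s) * (a, b)⁻¹ = (1, b * β s * b⁻¹) from Prod.ext (by simp) rfl]
      exact mem_zpowers_prod_right ((Subgroup.mem_normalizer_iff.1 hb _).1 (Subgroup.mem_zpowers _)))
    exact ⟨m, e, m.2, hm⟩
  have hD1 : D = ⊥ := Subgroup.eq_bot_of_card_le D (by omega)
  refine ⟨?_, ?_, fun a ha e => ?_⟩
  · have : Nat.card ↥T ≤ Nat.card ↥(N ⊓ T) := by
      rw [hD1, Subgroup.card_bot, one_mul] at hD
      rw [hc]; exact hD
    exact (Subgroup.eq_of_le_of_card_ge inf_le_right this).ge.trans inf_le_left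
  · exact (Subgroup.eq_of_le_of_card_ge (inf_le_right : N ⊓ U ≤ U) (by rw [hn]; exact hU)).ge.trans inf_le_left
  · have : a ∈ D := ⟨ha, fun b hb => by
      obtain ⟨k, rfl⟩ := Subgroup.mem_zpowers_iff.1 hb
      exact ((show Commute (s : G) a from e).zpow_left k).eq⟩
    rwa [hD1, Subgroup.mem_bot] at this

/-- An element of order five of `C`: its centraliser lies in `N` and meets `L` in `E`. -/
theorem five_data {u : ↥N} (hu : orderOf (u : G) = 5) (huC : (u : G) ∈ C) :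
    Subgroup.centralizer (Subgroup.zpowers (u : G) : Set G) ≤ N ∧
    Subgroup.normalizer (Subgroup.zpowers (u : G) : Set G) ≤ N ∧
    ∀ a ∈ L, (u : G) * a = a * u → a ∈ E := by
  haveI : Fact (Nat.Prime 5) := ⟨by norm_num⟩
  have ho := hp.order_map (by norm_num) (by norm_num) hu
  have hb : β u = 1 := by rw [← MonoidHom.mem_ker, h.βk]; exact huC
  set σ := (Γ u).1
  have hΓ : Γ u = (σ, 1) := Prod.ext rfl ((hp.snd u).trans hb)
  have hσ : orderOf σ = 5 := by
    have h5 := ho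
    rwa [hΓ, Prod.orderOf_mk, orderOf_one, Nat.lcm_one_right] at h5
  obtain ⟨hn, hc, -⟩ := h.five (Subgroup.zpowers (u : G)) (by rw [Nat.card_zpowers, hu])
  set T := Subgroup.centralizer (Subgroup.zpowers (u : G) : Set G)
  set U := Subgroup.normalizer (Subgroup.zpowers (u : G) : Set G)
  have hET : E ≤ L ⊓ T := le_inf h.E_le_L fun a ha b hb => by
    have hbC : b ∈ C := (Subgroup.zpowers_le.2 huC) hb
    rw [h.hC] at hbC
    exact (hbC a ha).symm
  set D := L ⊓ T
  have hD8 : 8 ≤ Nat.card ↥D := h.cardE ▸ Subgroup.card_le_of_le hET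
  have hD : Nat.card ↥D * 840 ≤ Nat.card ↥(N ⊓ T) := by
    have hY : Nat.card ↥((Subgroup.zpowers σ).prod (⊤ : Subgroup SL3)) = 840 := by
      rw [card_prod_le, Subgroup.card_top, card_SL3, Nat.card_zpowers, hσ]
    rw [← hY]
    refine hp.card_ge inf_le_left inf_le_left (le_inf (inf_le_left.trans h.L_le_N) inf_le_right) ?_
    rintro ⟨a, b⟩ ⟨ha, -⟩
    obtain ⟨m, e, hm⟩ := hp.exists_lift_cent (by norm_num) (by norm_num) hu (y := (a, b)) (by
      obtain ⟨k, rfl⟩ := Subgroup.mem_zpowers_iff.1 ha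
      rw [hΓ]
      exact Prod.ext ((Commute.self_zpow σ k).eq.symm) (by simp))
    exact ⟨m, e, m.2, hm⟩
  have hNT : Nat.card ↥(N ⊓ T) ≤ 6720 := hc ▸ Subgroup.card_le_of_le inf_le_right
  have hU : 26880 ≤ Nat.card ↥(N ⊓ U) := by
    have h1 : 26880 ≤ Nat.card ↥D *
        Nat.card ↥((Subgroup.normalizer (Subgroup.zpowers σ : Set S5)).prod (⊤ : Subgroup SL3)) := by
      rw [card_prod_le, Subgroup.card_top, card_SL3]
      have := card_normalizer_five hσ
      calc 26880 = 8 * (20 * 168) := by norm_num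
        _ ≤ _ := Nat.mul_le_mul hD8 (Nat.mul_le_mul this le_rfl)
    refine h1.trans (hp.card_ge inf_le_left inf_le_left
      (le_inf (inf_le_left.trans h.L_le_N) (inf_le_right.trans (Subgroup.centralizer_le_normalizer _))) ?_)
    rintro ⟨a, b⟩ ⟨ha, -⟩
    obtain ⟨m, e, hm⟩ := hp.exists_lift (by norm_num) (by norm_num) hu (y := (a, b)) (by
      rw [hΓ, show ((a, b) : S5 × SL3) * (σ, 1) * (a, b)⁻¹ = (a * σ * a⁻¹, 1) from Prod.ext rfl (by simp)]
      exact mem_zpowers_prod_left ((Subgroup.mem_normalizer_iff.1 ha _).1 (Subgroup.mem_zpowers _)))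
    exact ⟨m, e, m.2, hm⟩
  refine ⟨?_, ?_, fun a ha e => ?_⟩
  · have : Nat.card ↥T ≤ Nat.card ↥(N ⊓ T) := by rw [hc]; omega
    exact (Subgroup.eq_of_le_of_card_ge inf_le_right this).ge.trans inf_le_left
  · exact (Subgroup.eq_of_le_of_card_ge (inf_le_right : N ⊓ U ≤ U) (by rw [hn]; exact hU)).ge.trans inf_le_left
  · have hDE : E = D := Subgroup.eq_of_le_of_card_ge hET (by rw [h.cardE]; omega)
    rw [hDE]
    refine ⟨ha, fun b hb => ?_⟩
    obtain ⟨k, rfl⟩ := Subgroup.mem_zpowers_iff.1 hb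
    exact ((show Commute (u : G) a from e).zpow_left k).eq

end Prd

end CfsgLib.Sporadic.J4Type.Pentad
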