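import Cfsg.Agent.Lib.Sporadic.J4Type.Pentad.Stab
import Cfsg.Agent.Lib.Sporadic.J4Type.Pentad.TrioData
import Cfsg.Agent.Lib.Classical.SLOrders
import Cfsg.Agent.Lib.Classical.SLBasic

/-!
# The normaliser of the subgroup of order eight acts as `SL₃(2)`
-/

set_option autoImplicit false
set_option linter.style.haveILetI false
set_option linter.unusedSectionVars false
set_option maxRecDepth 40000

namespace CfsgLib.Sporadic.J4Type.Pentad

open Cfsg CfsgLib.Sporadic.LargeFischer CfsgLib.Sporadic.LargeFischer.Hexa CfsgLib.Sporadic.J4Type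
open CfsgLib.Sporadic.M24Orbits CfsgLib.ThreeTransp.M24Classes CfsgLib.SmallGroups.Golay

local notation "SL3" => Matrix.SpecialLinearGroup (Fin 3) (ZMod 2)

theorem simple_SL3 : IsSimpleGroup SL3 := by
  have h := CfsgLib.Classical.psl_fin_isSimpleGroup (F := ZMod 2) (k := 3) (by norm_num) (by norm_num)
  have hc : Subgroup.center SL3 = ⊥ := by
    rw [Subgroup.eq_bot_iff_forall]
    intro A hA
    obtain ⟨r, hr, hA'⟩ := Matrix.SpecialLinearGroup.mem_center_iff.1 hA
    obtain rfl : r = 1 := (by decide : ∀ r : ZMod 2, r ^ 3 = 1 → r = 1) r (by simpa using hr)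
    exact Subtype.ext (hA'.symm.trans (map_one _))
  exact ((QuotientGroup.quotientMulEquivOfEq hc).trans QuotientGroup.quotientBot).symm.isSimpleGroup

theorem card_SL3 : Nat.card SL3 = 168 := by
  have h := CfsgLib.Classical.card_units_mul_card_sl (F := ZMod 2) (n := Fin 3)
  rw [Matrix.card_GL_field, Nat.card_units] at h
  simp [Fin.prod_univ_three] at h
  rwa [Nat.card_eq_fintype_card]

/-- The matrix of an additive map on the eight codes. -/
def toMat (f : ℕ → ℕ) : Matrix (Fin 3) (Fin 3) (ZMod 2) := Matrix.of fun i j => bz (f (2 ^ j.1)) i.1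

theorem bits_three : ∀ p q r m : Fin 8, ∀ i : Fin 3,
    bz (lm [p.1, q.1, r.1] m.1) i.1 = bz p.1 i.1 * bz m.1 0 + bz q.1 i.1 * bz m.1 1 + bz r.1 i.1 * bz m.1 2 := by
  decide +kernel

theorem toMat_mul {f g : ℕ → ℕ} (hf : ∀ m, m < 8 → f m < 8)
    (hadd : ∀ a b, a < 8 → b < 8 → f (a ^^^ b) = f a ^^^ f b) (hg : ∀ m, m < 8 → g m < 8) :
    toMat (f ∘ g) = toMat f * toMat g := by
  have h0 : f 0 = 0 := by
    have := hadd 0 0 (by norm_num) (by norm_num)
    rwa [Nat.xor_self, Nat.xor_self] at this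
  have hlin : ∀ m, m < 8 → f m = lm [f 1, f 2, f 4] m := by
    have e : ∀ P Q S : ℕ, lm [P, Q, S] 0 = 0 := fun P Q S => lm_zero _
    intro m hm
    interval_cases m
    · rw [h0, e]
    · simp [lm]
    · simp [lm]
    · rw [show (3 : ℕ) = 1 ^^^ 2 from rfl, hadd 1 2 (by norm_num) (by norm_num)]; simp [lm]
    · simp [lm]
    · rw [show (5 : ℕ) = 1 ^^^ 4 from rfl, hadd 1 4 (by norm_num) (by norm_num)]; simp [lm]
    · rw [show (6 : ℕ) = 2 ^^^ 4 from rfl, hadd 2 4 (by norm_num) (by norm_num)]; simp [lm]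
    · rw [show (7 : ℕ) = (1 ^^^ 2) ^^^ 4 from rfl, hadd (1 ^^^ 2) 4 (by decide) (by norm_num),
        hadd 1 2 (by norm_num) (by norm_num)]
      simp [lm, Nat.xor_assoc]
  ext i j
  have h2 : ∀ k : Fin 3, 2 ^ k.1 < 8 := by decide
  show bz (f (g (2 ^ j.1))) i.1 = _
  rw [hlin _ (hg _ (h2 j)), bits_three ⟨_, hf 1 (by norm_num)⟩ ⟨_, hf 2 (by norm_num)⟩ ⟨_, hf 4 (by norm_num)⟩
    ⟨_, hg _ (h2 j)⟩ i, Matrix.mul_apply, Fin.sum_univ_three]
  rfl

theorem toMat_id : toMat id = 1 := by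
  ext i j
  fin_cases i <;> fin_cases j <;> decide +kernel

theorem fixed_of_toMat : ∀ m : Fin 8, ∀ j : Fin 3, (∀ i : Fin 3, bz m.1 i.1 = (1 : Matrix (Fin 3) (Fin 3) (ZMod 2)) i j) →
    m.1 = 2 ^ j.1 := by decide +kernel

section Group

variable {G : Type*} [Group G] [Finite G] [IsSimpleGroup G] {z : G} {π : G → V6}
  {ψ : ↥(Subgroup.centralizer ({z} : Set G)) →* (V6 ≃ₗ[ZMod 2] V6)}
  {x : ↥(Subgroup.centralizer ({z} : Set G))} (J : JF z π ψ x)
  {c : Fin 4 → ↥(Subgroup.centralizer ({z} : Set G))} (L : Lifts ψ x c)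
include J L

/-- The normaliser. -/
def nE : Subgroup G := Subgroup.normalizer (E8 J L : Set G)

/-- The code of the image. -/
noncomputable def fm (n : ↥(nE J L)) (m : ℕ) : ℕ := by
  classical
  exact if h : m < 8 then ((Subgroup.mem_normalizer_iff.1 n.2 (eg J L m)).1 (eg_mem J L h)).choose else 0

theorem fm_spec (n : ↥(nE J L)) {m : ℕ} (hm : m < 8) :
    fm J L n m < 8 ∧ (n : G) * eg J L m * (n : G)⁻¹ = eg J L (fm J L n m) := by
  rw [fm, dif_pos hm]
  exact ((Subgroup.mem_normalizer_iff.1 n.2 (eg J L m)).1 (eg_mem J L hm)).choose_spec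

theorem eg_inj {a b : ℕ} (ha : a < 8) (hb : b < 8) (e : eg J L a = eg J L b) : a = b := by
  have := (frame J).el_inj L (by omega) (by omega) e
  omega

theorem fm_eq (n : ↥(nE J L)) {m k : ℕ} (hm : m < 8) (hk : k < 8)
    (e : (n : G) * eg J L m * (n : G)⁻¹ = eg J L k) : fm J L n m = k :=
  eg_inj J L (fm_spec J L n hm).1 hk ((fm_spec J L n hm).2.symm.trans e)

theorem fm_add (n : ↥(nE J L)) (a b : ℕ) (ha : a < 8) (hb : b < 8) :
    fm J L n (a ^^^ b) = fm J L n a ^^^ fm J L n b := by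
  refine fm_eq J L n (Nat.xor_lt_two_pow (n := 3) ha hb) (Nat.xor_lt_two_pow (n := 3) (fm_spec J L n ha).1 (fm_spec J L n hb).1) ?_
  rw [eg_xor J L ha hb, eg_xor J L (fm_spec J L n ha).1 (fm_spec J L n hb).1, ← (fm_spec J L n ha).2, ← (fm_spec J L n hb).2]
  group

theorem mat_mul (a b : ↥(nE J L)) : toMat (fm J L (a * b)) = toMat (fm J L a) * toMat (fm J L b) := by
  rw [← toMat_mul (fun m hm => (fm_spec J L a hm).1) (fm_add J L a) (fun m hm => (fm_spec J L b hm).1)]
  ext i j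
  have h2 : 2 ^ j.1 < 8 := (by decide : ∀ k : Fin 3, 2 ^ k.1 < 8) j
  show bz _ _ = bz _ _
  rw [Function.comp_apply, fm_eq J L (a * b) h2 (fm_spec J L a (fm_spec J L b h2).1).1]
  show (a : G) * b * _ * ((a : G) * b)⁻¹ = _
  rw [← (fm_spec J L a (fm_spec J L b h2).1).2, ← (fm_spec J L b h2).2]
  group

theorem mat_one : toMat (fm J L 1) = 1 := by
  rw [← toMat_id]
  ext i j
  have h2 : 2 ^ j.1 < 8 := (by decide : ∀ k : Fin 3, 2 ^ k.1 < 8) j
  show bz _ _ = bz _ _
  rw [fm_eq J L 1 h2 h2 (by simp)]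
  rfl

/-- The action on the subgroup of order eight. -/
noncomputable def beta : ↥(nE J L) →* SL3 where
  toFun n := ⟨toMat (fm J L n), by
    have h : toMat (fm J L n) * toMat (fm J L n⁻¹) = 1 := by rw [← mat_mul J L, mul_inv_cancel, mat_one J L]
    have h' := congrArg Matrix.det h
    rw [Matrix.det_mul, Matrix.det_one] at h'
    exact (by decide : ∀ a b : ZMod 2, a * b = 1 → a = 1) _ _ h'⟩
  map_one' := Subtype.ext (mat_one J L)
  map_mul' a b := Subtype.ext (mat_mul J L a b)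

theorem cE_le_nE : cE J L ≤ nE J L := Subgroup.centralizer_le_normalizer _

theorem beta_ker : (beta J L).ker = (cE J L).subgroupOf (nE J L) := by
  ext n
  rw [MonoidHom.mem_ker, Subgroup.mem_subgroupOf]
  constructor
  · intro h
    have hfix : ∀ j : Fin 3, fm J L n (2 ^ j.1) = 2 ^ j.1 := fun j =>
      fixed_of_toMat ⟨_, (fm_spec J L n ((by decide : ∀ k : Fin 3, 2 ^ k.1 < 8) j)).1⟩ j fun i =>
        congrFun (congrFun (congrArg Subtype.val h) i) j
    have hcomm : ∀ j : Fin 3, (n : G) * eg J L (2 ^ j.1) = eg J L (2 ^ j.1) * (n : G) := fun j => by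
      have h2 := (fm_spec J L n ((by decide : ∀ k : Fin 3, 2 ^ k.1 < 8) j)).2
      rw [hfix j] at h2
      exact mul_inv_eq_iff_eq_mul.1 h2
    obtain ⟨h1, h2, h4⟩ := eg_bits J L
    refine (mem_cE J L).2 ⟨?_, ?_, ?_⟩
    · have := hcomm 0; rwa [show 2 ^ (0 : Fin 3).1 = 1 from rfl, h1] at this
    · have := hcomm 1; rwa [show 2 ^ (1 : Fin 3).1 = 2 from rfl, h2] at this
    · have := hcomm 2; rwa [show 2 ^ (2 : Fin 3).1 = 4 from rfl, h4] at this
  · intro h
    refine Subtype.ext (Eq.trans ?_ (mat_one J L))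
    ext i j
    have hj : 2 ^ j.1 < 8 := (by decide : ∀ k : Fin 3, 2 ^ k.1 < 8) j
    show bz _ _ = bz _ _
    rw [fm_eq J L n hj hj (mul_inv_eq_iff_eq_mul.2 (h _ (eg_mem J L hj)).symm), fm_eq J L 1 hj hj (by simp)]

/-- An element over a table acts by the list. -/
theorem act_of_table {θ : ↥(Subgroup.normalizer ((frame J).asub L : Set G)) →* ↥Cfsg.M24}
    (hcode : ∀ m : ↥(Subgroup.normalizer ((frame J).asub L : Set G)), (frame J).Coded L (m : G) (θ m : Equiv.Perm GolayPt)) {t M : List ℕ} (hok : linOK t M = true)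
    (m : ↥(Subgroup.normalizer ((frame J).asub L : Set G))) (hm : IsTbl (θ m : Equiv.Perm GolayPt) t) :
    ∀ n, n < 2048 → (m : G) * (frame J).el L n * (m : G)⁻¹ = (frame J).el L (lm M n) := by
  simp only [linOK, Bool.and_eq_true, List.all_eq_true, decide_eq_true_eq, List.mem_range, beq_iff_eq] at hok
  obtain ⟨⟨-, hM⟩, hpc⟩ := hok
  have hMlt : ∀ n, lm M n < 2048 := fun n => lm_lt (k := 11) _ _ hM
  have hex : ∀ n, ∃ k, k < 2048 ∧ (n < 2048 → (m : G) * (frame J).el L n * (m : G)⁻¹ = (frame J).el L k) := by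
    intro n
    by_cases hn : n < 2048
    · obtain ⟨k, hk, e⟩ := (Subgroup.mem_normalizer_iff.1 m.2 ((frame J).el L n)).1 ⟨n, hn, rfl⟩
      exact ⟨k, hk, fun _ => e⟩
    · exact ⟨0, by norm_num, fun h => absurd h hn⟩
  choose fc hfl hfe using hex
  have hadd : ∀ a b, a < 2048 → b < 2048 → fc (a ^^^ b) = fc a ^^^ fc b := fun a b ha hb => by
    have hab : a ^^^ b < 2048 := Nat.xor_lt_two_pow (n := 11) ha hb
    refine (frame J).el_inj L (hfl _) (Nat.xor_lt_two_pow (n := 11) (hfl _) (hfl _)) ?_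
    rw [(frame J).el_xor L (hfl _) (hfl _), ← hfe a ha, ← hfe b hb, ← hfe _ hab, (frame J).el_xor L ha hb]
    group
  have hj : ∀ j, j < 24 → fc (pcode j) = lm M (pcode j) := fun j hj => by
    have hlt : pcode j < 2048 := by
      have := phi_lt (pt j)
      rwa [phi, idx_pt hj] at this
    have h1 := hcode m (pt j) none
    have hn : idx (none : GolayPt) = 23 := rfl
    rw [phi_none, Nat.xor_zero, phi, idx_pt hj, phi, phi, hm, hm, idx_pt hj, hn] at h1
    refine (frame J).el_inj L (hfl _) (hMlt _) ?_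
    rw [← hfe _ hlt, h1, hpc j hj]
  have hid := eq_on_all (f := fun n => fc n ^^^ lm M n ^^^ n)
    (fun a b ha hb => by simp only [hadd a b ha hb, lm_xor]; ac_rfl)
    (fun j hj' => by simp only [hj j hj', Nat.xor_self, Nat.zero_xor])
  intro n hn
  have e := hid n hn
  have e' : fc n ^^^ lm M n = 0 := by
    have := congrArg (· ^^^ n) e
    simpa [Nat.xor_assoc] using this
  rw [hfe n hn, Nat.xor_eq_zero_iff.1 e']

/-- A subgroup of the normaliser acting as the whole group, and the surjectivity. -/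
theorem exists_complement {θ : ↥(Subgroup.normalizer ((frame J).asub L : Set G)) →* ↥Cfsg.M24}
    (hsurj : Function.Surjective θ) (hker : θ.ker = ((frame J).asub L).subgroupOf _)
    (hcode : ∀ m : ↥(Subgroup.normalizer ((frame J).asub L : Set G)), (frame J).Coded L (m : G) (θ m : Equiv.Perm GolayPt)) {K₀ : Subgroup G}
    (hK₀ : K₀ ≤ Subgroup.normalizer ((frame J).asub L : Set G)) (hinf : K₀ ⊓ (frame J).asub L = ⊥)
    (hsup : K₀ ⊔ (frame J).asub L = Subgroup.normalizer ((frame J).asub L : Set G)) :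
    Function.Surjective (beta J L) ∧ ∃ K : Subgroup G, K ≤ nE J L ∧ Nonempty (↥K ≃* SL3) := by
  classical
  obtain ⟨okA, a1, a2, a4⟩ := linA_ok
  obtain ⟨okB, b1, b2, b4⟩ := linB_ok
  have hokA : okTbl tabA = true := by simp only [linOK, Bool.and_eq_true] at okA; exact okA.1.1
  have hokB : okTbl tabB = true := by simp only [linOK, Bool.and_eq_true] at okB; exact okB.1.1
  obtain ⟨pa, hpa, hta⟩ := M24Orbits.exists_elt hokA
  obtain ⟨pb, hpb, htb⟩ := M24Orbits.exists_elt hokB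
  have hlift : ∀ p ∈ Cfsg.M24, ∃ m : ↥(Subgroup.normalizer ((frame J).asub L : Set G)), (m : G) ∈ K₀ ∧
      (θ m : Equiv.Perm GolayPt) = p := by
    intro p hp
    obtain ⟨m, hm⟩ := hsurj ⟨p, hp⟩
    have hmem : (m : G) ∈ ((K₀ ⊔ (frame J).asub L : Subgroup G) : Set G) := hsup.ge m.2
    rw [Subgroup.coe_mul_of_left_le_normalizer_right K₀ _ hK₀] at hmem
    obtain ⟨k, hk, a, ha, e⟩ := Set.mem_mul.1 hmem
    refine ⟨⟨k, hK₀ hk⟩, hk, ?_⟩
    have ha' : (⟨a, Subgroup.le_normalizer ha⟩ : ↥(Subgroup.normalizer ((frame J).asub L : Set G))) ∈ θ.ker := by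
      rw [hker, Subgroup.mem_subgroupOf]; exact ha
    have e' : m = ⟨k, hK₀ hk⟩ * ⟨a, Subgroup.le_normalizer ha⟩ := Subtype.ext e.symm
    rw [e', map_mul, MonoidHom.mem_ker.1 ha', mul_one] at hm
    exact congrArg Subtype.val hm
  obtain ⟨ma, hmaK, hma⟩ := hlift pa hpa
  obtain ⟨mb, hmbK, hmb⟩ := hlift pb hpb
  -- the lifts normalise the subgroup of order eight
  have hact : ∀ (m : ↥(Subgroup.normalizer ((frame J).asub L : Set G))) (t M : List ℕ), linOK t M = true →
      IsTbl (θ m : Equiv.Perm GolayPt) t → (∀ k : Fin 8, ∃ k' : Fin 8, lm M (16 * k.1) = 16 * k'.1) →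
      ∃ h : (m : G) ∈ nE J L, ∀ k, k < 8 → 16 * fm J L ⟨m, h⟩ k = lm M (16 * k) := by
    intro m t M hok ht hk
    have key : ∀ k, k < 8 → ∃ k', k' < 8 ∧ lm M (16 * k) = 16 * k' ∧ (m : G) * eg J L k * (m : G)⁻¹ = eg J L k' := by
      intro k hk8
      obtain ⟨k', e⟩ := hk ⟨k, hk8⟩
      refine ⟨k'.1, k'.2, e, ?_⟩
      show (m : G) * (frame J).el L (16 * k) * (m : G)⁻¹ = (frame J).el L (16 * k'.1)
      rw [act_of_table J L hcode hok m ht (16 * k) (by omega), e]
    have hle : (E8 J L).map (MulAut.conj (m : G)).toMonoidHom = E8 J L := by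
      refine Subgroup.eq_of_le_of_card_ge ?_ (by
        rw [Subgroup.card_map_of_injective (f := (MulAut.conj (m : G)).toMonoidHom) (MulAut.conj (m : G)).injective])
      rintro _ ⟨_, ⟨k, hk8, rfl⟩, rfl⟩
      obtain ⟨k', hk', -, e⟩ := key k hk8
      exact ⟨k', hk', e⟩
    have h : (m : G) ∈ nE J L := by
      refine Subgroup.mem_normalizer_iff.2 fun a => ⟨fun ha => hle.le ⟨a, ha, rfl⟩, fun ha => ?_⟩
      obtain ⟨b, hb, eb⟩ := hle.ge ha
      rwa [← (MulAut.conj (m : G)).injective eb]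
    refine ⟨h, fun k hk8 => ?_⟩
    obtain ⟨k', hk', e1, e2⟩ := key k hk8
    rw [e1, fm_eq J L ⟨m, h⟩ hk8 hk' e2]
  obtain ⟨hna, hfa⟩ := hact ma tabA linA okA (hma ▸ hta) (by decide +kernel)
  obtain ⟨hnb, hfb⟩ := hact mb tabB linB okB (hmb ▸ htb) (by decide +kernel)
  -- the group
  set S := Subgroup.closure ({pa, pb} : Set (Equiv.Perm GolayPt)) with hS
  have hSM : S ≤ Cfsg.M24 := (Subgroup.closure_le _).2 (by rintro g (rfl | rfl) <;> assumption)
  have hStbl : ∀ σ ∈ S, ∃ t ∈ tabs, IsTbl σ t := by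
    intro σ hσ
    rw [hS, ← Subgroup.mem_toSubmonoid, Subgroup.closure_toSubmonoid_of_finite] at hσ
    induction hσ using Submonoid.closure_induction_left with
    | one => exact ⟨_, List.contains_iff_mem.1 tabs_one.1, fun p => by
        simp [tblNat, List.getD_eq_getElem, idx_lt p]⟩
    | mul_left g hg σ hσ ih =>
      obtain ⟨t, ht, hσt⟩ := ih
      have hc := List.all_eq_true.1 tabs_closed t ht
      simp only [Bool.and_eq_true, beq_iff_eq] at hc
      obtain ⟨⟨hc1, hc2⟩, hlen⟩ := hc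
      have comp : ∀ (T : List ℕ), IsTbl g T → IsTbl (g * σ) (t.map (tblNat T)) := fun T hT p => by
        have hlt : idx p < t.length := by rw [hlen]; exact idx_lt p
        rw [Equiv.Perm.mul_apply, hT, hσt]
        simp [tblNat, hlt]
      rcases hg with rfl | rfl
      · exact ⟨_, List.contains_iff_mem.1 hc1, comp _ hta⟩
      · exact ⟨_, List.contains_iff_mem.1 hc2, comp _ htb⟩
  have hScard : Nat.card ↥S ≤ 168 := by
    choose T hT hTt using hStbl
    let f : ↥S → {t // t ∈ tabs.toFinset} := fun σ => ⟨T σ.1 σ.2, List.mem_toFinset.2 (hT _ σ.2)⟩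
    have hf : Function.Injective f := fun σ τ e => by
      have e' : T σ.1 σ.2 = T τ.1 τ.2 := congrArg Subtype.val e
      have h := hTt _ σ.2
      rw [e'] at h
      exact Subtype.ext (h.unique (hTt _ τ.2))
    refine (Nat.card_le_card_of_injective f hf).trans ?_
    rw [Nat.card_eq_fintype_card, Fintype.card_coe, ← tabs_one.2]
    exact List.toFinset_card_le _
  set K : Subgroup ↥(nE J L) := Subgroup.closure {⟨ma, hna⟩, ⟨mb, hnb⟩} with hK
  have hKK₀ : ∀ k ∈ K, (k : G) ∈ K₀ := by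
    intro k hk
    exact (Subgroup.closure_le (K := K₀.comap (nE J L).subtype)).2
      (by rintro g (rfl | rfl) <;> assumption) hk
  have hKcard : Nat.card ↥K ≤ 168 := by
    refine le_trans ?_ hScard
    let f : ↥K → Equiv.Perm GolayPt := fun k => (θ ⟨(k : ↥(nE J L)), hK₀ (hKK₀ _ k.2)⟩ : Equiv.Perm GolayPt)
    have hfS : ∀ k, f k ∈ S := by
      rintro ⟨k, hk⟩
      have : ∀ h : (k : G) ∈ K₀, (θ ⟨(k : G), hK₀ h⟩ : Equiv.Perm GolayPt) ∈ S := by
        induction hk using Subgroup.closure_induction with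
        | mem g hg =>
          intro h
          rcases hg with rfl | rfl
          · rw [show (⟨(ma : G), hK₀ h⟩ : ↥(Subgroup.normalizer ((frame J).asub L : Set G))) = ma from Subtype.ext rfl, hma]
            exact Subgroup.subset_closure (Or.inl rfl)
          · rw [show (⟨(mb : G), hK₀ h⟩ : ↥(Subgroup.normalizer ((frame J).asub L : Set G))) = mb from Subtype.ext rfl, hmb]
            exact Subgroup.subset_closure (Or.inr rfl)
        | one =>
          intro h
          rw [show (⟨((1 : ↥(nE J L)) : G), hK₀ h⟩ : ↥(Subgroup.normalizer ((frame J).asub L : Set G))) = 1 from Subtype.ext rfl, map_one]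
          exact one_mem _
        | mul a b ha hb iha ihb =>
          intro h
          rw [show (⟨((a * b : ↥(nE J L)) : G), hK₀ h⟩ : ↥(Subgroup.normalizer ((frame J).asub L : Set G))) =
            ⟨a, hK₀ (hKK₀ a ha)⟩ * ⟨b, hK₀ (hKK₀ b hb)⟩ from Subtype.ext rfl, map_mul, Subgroup.coe_mul]
          exact mul_mem (iha (hKK₀ a ha)) (ihb (hKK₀ b hb))
        | inv a ha iha =>
          intro h
          rw [show (⟨((a⁻¹ : ↥(nE J L)) : G), hK₀ h⟩ : ↥(Subgroup.normalizer ((frame J).asub L : Set G))) =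
            ⟨a, hK₀ (hKK₀ a ha)⟩⁻¹ from Subtype.ext rfl, map_inv, Subgroup.coe_inv]
          exact inv_mem (iha (hKK₀ a ha))
      exact this (hKK₀ k hk)
    refine Nat.card_le_card_of_injective (fun k => (⟨f k, hfS k⟩ : ↥S)) fun a b e => ?_
    have e' : θ ⟨((a : ↥(nE J L)) : G), hK₀ (hKK₀ _ a.2)⟩ = θ ⟨((b : ↥(nE J L)) : G), hK₀ (hKK₀ _ b.2)⟩ :=
      Subtype.ext (congrArg Subtype.val e :)
    have hd : ((a : ↥(nE J L)) : G)⁻¹ * ((b : ↥(nE J L)) : G) ∈ K₀ ⊓ (frame J).asub L := by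
      refine ⟨(mul_mem (inv_mem (hKK₀ _ a.2)) (hKK₀ _ b.2) : ((a : ↥(nE J L)) : G)⁻¹ * ((b : ↥(nE J L)) : G) ∈ K₀), ?_⟩
      have : (⟨((a : ↥(nE J L)) : G), hK₀ (hKK₀ _ a.2)⟩ : ↥(Subgroup.normalizer ((frame J).asub L : Set G)))⁻¹ *
          ⟨((b : ↥(nE J L)) : G), hK₀ (hKK₀ _ b.2)⟩ ∈ θ.ker := by
        rw [MonoidHom.mem_ker, map_mul, map_inv, e', inv_mul_cancel]
      rwa [hker, Subgroup.mem_subgroupOf] at this
    rw [hinf, Subgroup.mem_bot, inv_mul_eq_one] at hd
    exact Subtype.ext (Subtype.ext hd)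
  -- the images generate
  set φ : ↥K →* SL3 := (beta J L).comp K.subtype with hφ
  set A := φ ⟨⟨ma, hna⟩, Subgroup.subset_closure (Or.inl rfl)⟩ with hA
  set B := φ ⟨⟨mb, hnb⟩, Subgroup.subset_closure (Or.inr rfl)⟩ with hB
  have hmat : ∀ (m : ↥(nE J L)) (M : List ℕ) (p q r : ℕ), (∀ k, k < 8 → 16 * fm J L m k = lm M (16 * k)) →
      lm M 16 = 16 * p → lm M 32 = 16 * q → lm M 64 = 16 * r →
      ((beta J L m : SL3) : Matrix (Fin 3) (Fin 3) (ZMod 2)) = toMat (fun k => [0, p, q, 0, r].getD k 0) := by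
    intro m M p q r h h1 h2 h4
    ext i j
    show bz _ _ = bz _ _
    have e1 := h 1 (by norm_num)
    have e2 := h 2 (by norm_num)
    have e4 := h 4 (by norm_num)
    fin_cases j
    · simp only [show (16 : ℕ) * 1 = 16 from rfl, h1] at e1
      show bz (fm J L m 1) _ = bz p _
      rw [show fm J L m 1 = p by omega]
    · simp only [show (16 : ℕ) * 2 = 32 from rfl, h2] at e2
      show bz (fm J L m 2) _ = bz q _
      rw [show fm J L m 2 = q by omega]
    · simp only [show (16 : ℕ) * 4 = 64 from rfl, h4] at e4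
      show bz (fm J L m 4) _ = bz r _
      rw [show fm J L m 4 = r by omega]
  have eA := hmat ⟨ma, hna⟩ linA 4 3 6 hfa a1 a2 a4
  have eB := hmat ⟨mb, hnb⟩ linB 1 6 4 hfb b1 b2 b4
  have hA' : (A : Matrix (Fin 3) (Fin 3) (ZMod 2)) = toMat (fun k => [0, 4, 3, 0, 6].getD k 0) := eA
  have hB' : (B : Matrix (Fin 3) (Fin 3) (ZMod 2)) = toMat (fun k => [0, 1, 6, 0, 4].getD k 0) := eB
  have hA7 : orderOf A = 7 := by
    haveI : Fact (Nat.Prime 7) := ⟨by norm_num⟩
    refine orderOf_eq_prime (Subtype.ext ?_) fun e => ?_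
    · rw [Matrix.SpecialLinearGroup.coe_pow, hA']; decide +kernel
    · have := congrArg Subtype.val e
      rw [hA'] at this
      revert this; decide +kernel
  have hAB4 : orderOf (A * B) = 2 ^ 2 := by
    haveI : Fact (Nat.Prime 2) := ⟨Nat.prime_two⟩
    refine orderOf_eq_prime_pow (fun e => ?_) (Subtype.ext ?_)
    · have := congrArg Subtype.val e
      rw [Matrix.SpecialLinearGroup.coe_pow, Matrix.SpecialLinearGroup.coe_mul, hA', hB'] at this
      revert this; decide +kernel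
    · rw [Matrix.SpecialLinearGroup.coe_pow, Matrix.SpecialLinearGroup.coe_mul, hA', hB']; decide +kernel
  have h28 : 28 ∣ Nat.card φ.range := by
    refine (Nat.Coprime.mul_dvd_of_dvd_of_dvd (by norm_num : Nat.Coprime 7 4) ?_ ?_ : 7 * 4 ∣ _)
    · rw [← hA7, ← Subgroup.orderOf_mk A (MonoidHom.mem_range.2 ⟨_, rfl⟩ : A ∈ φ.range)]; exact orderOf_dvd_natCard _
    · rw [show (4 : ℕ) = 2 ^ 2 from rfl, ← hAB4,
        ← Subgroup.orderOf_mk (A * B) (mul_mem (MonoidHom.mem_range.2 ⟨_, rfl⟩ : A ∈ φ.range) (MonoidHom.mem_range.2 ⟨_, rfl⟩ : B ∈ φ.range))]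
      exact orderOf_dvd_natCard _
  have htop : φ.range = ⊤ := by
    haveI := simple_SL3
    by_contra hne
    have hcore := (Subgroup.normalCore_normal φ.range).eq_bot_or_eq_top.resolve_right fun e =>
      hne (top_le_iff.1 (e ▸ φ.range.normalCore_le))
    have hinj : Function.Injective (MulAction.toPermHom SL3 (SL3 ⧸ φ.range)) := by
      rw [← MonoidHom.ker_eq_bot_iff, ← Subgroup.normalCore_eq_ker]; exact hcore
    have hd := Subgroup.card_dvd_of_injective _ hinj
    have hi := φ.range.card_mul_index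
    rw [card_SL3] at hi hd
    haveI : Fintype (SL3 ⧸ φ.range) := Fintype.ofFinite _
    rw [Nat.card_eq_fintype_card (α := Equiv.Perm _), Fintype.card_perm, ← Nat.card_eq_fintype_card,
      ← Subgroup.index_eq_card] at hd
    obtain ⟨j, hj⟩ := h28
    rw [hj] at hi
    have hle : φ.range.index ≤ 6 := by
      rcases Nat.eq_zero_or_pos j with rfl | hjp
      · simp at hi
      · calc φ.range.index ≤ j * φ.range.index := Nat.le_mul_of_pos_left _ hjp
          _ ≤ 6 := by nlinarith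
    generalize φ.range.index = n at hd hle
    interval_cases n <;> norm_num [Nat.factorial] at hd
  have hφs : Function.Surjective φ := MonoidHom.range_eq_top.1 htop
  refine ⟨fun y => ⟨((hφs y).choose : ↥(nE J L)), (hφs y).choose_spec⟩, K.map (nE J L).subtype,
    Subgroup.map_subtype_le _, ?_⟩
  have hbij : Function.Bijective φ := (Nat.bijective_iff_surjective_and_card φ).2 ⟨hφs, le_antisymm
    (hKcard.trans card_SL3.ge) (Nat.card_le_card_of_surjective φ hφs)⟩
  exact ⟨(Subgroup.equivMapOfInjective K _ (nE J L).subtype_injective).symm.trans (MulEquiv.ofBijective φ hbij)⟩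

end Group

end CfsgLib.Sporadic.J4Type.Pentad
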